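import Cfsg.Agent.Lib.Local.BlockTorus.Setup
import Cfsg.Agent.Lib.Thompson.NormalComplementAbelian
import Cfsg.Agent.Lib.PGroup.DerivedLength
import Cfsg.Agent.Lib.Local.CentralWeaklyClosed

/-!
# Tori moving a central subgroup of a Sylow subgroup

For odd `p`, a subgroup `T` of the centre of a Sylow subgroup `P` lying in a normal abelian
`p`-subgroup and normalized by `N(J(P))` is normal unless an element of order prime to `p`
modulo its centralizer normalizes it, moves it and is transitive on the commutator.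
-/

set_option autoImplicit false
set_option linter.style.haveILetI false
set_option linter.unusedSectionVars false

namespace Cfsg.Lib.Local.BlockTorus

open Subgroup Cfsg
open scoped commutatorElement
open FF (Model toModel modV)
open PMinOff (Conf Pre)
open OffenderPair (fx)

universe u

local notation:max "cj" g:max K:max => Subgroup.map (MulEquiv.toMonoidHom (MulAut.conj g)) K

/-- An element of `N(T)` of order prime to `p` on `T` moves it and is transitive on the commutator. -/
def HasTwist {G : Type*} [Group G] (p : ℕ) (T : Subgroup G) : Prop :=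
  ∃ n ∈ normalizer (T : Set G), (∃ o : ℕ, o.Coprime p ∧ ∀ t ∈ T, n ^ o * t * (n ^ o)⁻¹ = t) ∧
    (∃ t ∈ T, n * t * n⁻¹ ≠ t) ∧
      ∀ a ∈ closure {y | ∃ t ∈ T, y = n * t * n⁻¹ * t⁻¹}, ∀ b ∈ closure {y | ∃ t ∈ T, y = n * t * n⁻¹ * t⁻¹},
        a ≠ 1 → b ≠ 1 → ∃ k : ℕ, n ^ k * a * (n ^ k)⁻¹ = b

theorem HasTwist.map {G H : Type*} [Group G] [Group H] {p : ℕ} {T : Subgroup H} (f : H →* G)
    (hf : Function.Injective f) (h : HasTwist p T) : HasTwist p (T.map f) := by
  obtain ⟨n, hn, ⟨o, ho, hfix⟩, ⟨t, ht, hne⟩, htr⟩ := h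
  refine ⟨f n, le_normalizer_map f ⟨n, hn, rfl⟩, ⟨o, ho, ?_⟩, ⟨f t, mem_map_of_mem f ht, ?_⟩, ?_⟩
  · rintro _ ⟨s, hs, rfl⟩
    rw [← map_pow, ← map_inv, ← map_mul, ← map_mul, hfix s hs]
  · rw [← map_inv, ← map_mul, ← map_mul]
    exact fun e => hne (hf e)
  · have e : closure {y | ∃ t ∈ T.map f, y = f n * t * (f n)⁻¹ * t⁻¹} =
        (closure {y | ∃ t ∈ T, y = n * t * n⁻¹ * t⁻¹}).map f := by
      rw [MonoidHom.map_closure]
      congr 1
      ext y
      constructor
      · rintro ⟨_, ⟨s, hs, rfl⟩, rfl⟩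
        exact ⟨_, ⟨s, hs, rfl⟩, by simp⟩
      · rintro ⟨_, ⟨s, hs, rfl⟩, rfl⟩
        exact ⟨f s, mem_map_of_mem f hs, by simp⟩
    rw [e]
    rintro _ ⟨a, ha, rfl⟩ _ ⟨b, hb, rfl⟩ ha1 hb1
    obtain ⟨k, hk⟩ := htr a ha b hb (fun e => ha1 (by rw [e, map_one])) (fun e => hb1 (by rw [e, map_one]))
    exact ⟨k, by rw [← map_pow, ← map_inv, ← map_mul, ← map_mul, hk]⟩

variable {G : Type u} [Group G] [Finite G] {p : ℕ} [hp : Fact p.Prime]

theorem eq_bot_of_le_commutator_of_le {R A X : Subgroup G} (hR : IsPGroup p ↥R) (hA : A ≤ R) (hX : X ≤ R)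
    (h : X ≤ ⁅X, A⁆) : X = ⊥ := by
  have h1 : X.subgroupOf R = ⊥ := PGroup.DerivedLength.eq_bot_of_le_commutator hR <| by
    intro x hx
    have h2 : ⁅X, A⁆ ≤ (⁅X.subgroupOf R, (⊤ : Subgroup ↥R)⁆).map R.subtype := by
      rw [map_commutator, map_subgroupOf_eq_of_le hX]
      refine commutator_mono le_rfl fun a ha => ⟨⟨a, hA ha⟩, mem_top _, rfl⟩
    obtain ⟨y, hy, e⟩ := h2 (h (mem_subgroupOf.1 hx))
    rwa [show x = y from Subtype.ext e.symm]
  rw [subgroupOf_eq_bot, disjoint_iff, inf_eq_left.2 hX] at h1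
  exact h1

set_option maxHeartbeats 1600000 in
/-- The step in which every proper subgroup above the Sylow subgroup normalizes `T`. -/
theorem step (h2 : p ≠ 2) (P : Sylow p G) (T V₀ : Subgroup G) [V₀.Normal] (hV₀c : IsMulCommutative ↥V₀)
    (hV₀p : IsPGroup p ↥V₀) (hTV₀ : T ≤ V₀) (hTP : ∀ t ∈ T, ∀ u ∈ (P : Subgroup G), Commute u t)
    (hJ : normalizer (thompsonSubgroupAOf (P : Subgroup G) : Set G) ≤ normalizer (T : Set G))
    (hproper : ∀ L : Subgroup G, (P : Subgroup G) ≤ L → L ≠ ⊤ → L ≤ normalizer (T : Set G))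
    (hnn : normalizer (T : Set G) ≠ ⊤) : HasTwist p T := by
  classical
  set W := normalClosure (T : Set G) with hW
  have hWV₀ : W ≤ V₀ := normalClosure_le_normal (SetLike.coe_subset_coe.2 hTV₀)
  have hTW : T ≤ W := subset_normalClosure
  have hWc : ∀ a ∈ W, ∀ b ∈ W, a * b = b * a := fun a ha b hb =>
    congrArg Subtype.val (mul_comm' (⟨a, hWV₀ ha⟩ : ↥V₀) ⟨b, hWV₀ hb⟩)
  have hWp : IsPGroup p ↥W := hV₀p.to_le hWV₀
  have hWP : W ≤ (P : Subgroup G) := GlaubermanZJ.le_sylow_of_normal hWp P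
  haveI hWn : W.Normal := normalClosure_normal
  let V : Subgroup G :=
    { carrier := {x | x ∈ W ∧ x ^ p = 1}
      mul_mem' := fun {a b} ha hb => ⟨mul_mem ha.1 hb.1, by
        rw [(show Commute a b from hWc a ha.1 b hb.1).mul_pow, ha.2, hb.2, mul_one]⟩
      one_mem' := ⟨one_mem W, one_pow p⟩
      inv_mem' := fun {a} ha => ⟨inv_mem ha.1, by rw [inv_pow, ha.2, inv_one]⟩ }
  haveI hVn : V.Normal := ⟨fun v hv g => ⟨hWn.conj_mem v hv.1 g, by rw [conj_pow, hv.2, mul_one, mul_inv_cancel]⟩⟩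
  have hV : Cfsg.IsElementaryAbelian p V :=
    ⟨⟨⟨fun a b => Subtype.ext (hWc a a.2.1 b b.2.1)⟩⟩, fun a ha => ha.2⟩
  have hVP : V ≤ (P : Subgroup G) := fun v hv => hWP hv.1
  set K := centralizer (W : Set G) with hK
  have hPT : (P : Subgroup G) ≤ centralizer (T : Set G) := fun u hu =>
    mem_centralizer_iff.2 fun t ht => (hTP t ht u hu).symm.eq
  have hKT : K ≤ centralizer (T : Set G) := centralizer_le hTW
  have hCN : centralizer (T : Set G) ≤ normalizer (T : Set G) := centralizer_le_normalizer _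
  -- a normal subgroup whose elements of order prime to `p` centralize `W` centralizes it
  have hle : ∀ D : Subgroup G, D.Normal → (∀ y ∈ D, (orderOf y).Coprime p → y ∈ K) → D ≤ K := by
    intro D hDn hD
    haveI := hDn
    haveI hKn : K.Normal := inferInstance
    set π := QuotientGroup.mk' K
    haveI : (D.map π).Normal := hDn.map π (QuotientGroup.mk'_surjective K)
    have hDp : IsPGroup p ↥(D.map π) := by
      rintro ⟨_, d, hd, rfl⟩
      obtain ⟨k, m, hm, hord⟩ :=
        Nat.exists_eq_pow_mul_and_not_dvd (orderOf_pos d).ne' p hp.out.ne_one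
      refine ⟨k, Subtype.ext ?_⟩
      show π d ^ p ^ k = 1
      rw [← map_pow]
      refine (QuotientGroup.eq_one_iff _).2 (hD _ (pow_mem hd _) ?_)
      rw [orderOf_pow, hord, Nat.gcd_eq_right (dvd_mul_right _ _),
        Nat.mul_div_cancel_left _ (pow_pos hp.out.pos k)]
      exact ((hp.out.coprime_iff_not_dvd).2 hm).symm
    have hDT : D ≤ centralizer (T : Set G) := by
      intro d hd
      obtain ⟨u, hu, e⟩ := GlaubermanZJ.le_sylow_of_normal hDp
        (P.mapSurjective (QuotientGroup.mk'_surjective K)) (mem_map_of_mem π hd)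
      have hk : u⁻¹ * d ∈ K := (QuotientGroup.eq_one_iff _).1 (by
        show π (u⁻¹ * d) = 1
        rw [map_mul, map_inv, e, inv_mul_cancel])
      simpa using mul_mem (hPT hu) (hKT hk)
    refine le_centralizer_iff.1 ?_
    exact normalClosure_le_normal (N := centralizer (D : Set G)) (SetLike.coe_subset_coe.2 (le_centralizer_iff.1 hDT))
  have hcent : centralizer (V : Set G) = K := by
    refine le_antisymm (hle _ inferInstance fun y hy hyc => mem_centralizer_iff.2 fun w hw => ?_)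
      (centralizer_le fun v hv => hv.1)
    have h1 := Baumann.fix_of_fix_omega hWp hWc hyc (by rw [normalizer_eq_top]; exact mem_top y)
      (fun v hv hvp => by rw [← mem_centralizer_iff.1 hy v ⟨hv, hvp⟩, mul_inv_cancel_right]) w hw
    exact (mul_inv_eq_iff_eq_mul.1 h1).symm
  set f := toModel V with hf
  have hker : f.ker = centralizer (V : Set G) := FF.toModel_ker V
  have hkerN : f.ker ≤ normalizer (T : Set G) := (hker.trans hcent).le.trans (hKT.trans hCN)
  -- a largest abelian subgroup outside the centralizer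
  by_cases hall : ∀ A, GlaubermanZJ.IsMaxAbIn (P : Subgroup G) A → A ≤ K
  · exfalso
    set R := (P : Subgroup G) ⊓ K with hR
    have hJR : thompsonSubgroupAOf (P : Subgroup G) = thompsonSubgroupAOf R := by
      obtain ⟨A₀, hA₀⟩ := GlaubermanZJ.exists_isMaxAbIn (P : Subgroup G)
      rw [GlaubermanZJ.thompsonSubgroupAOf_eq, GlaubermanZJ.thompsonSubgroupAOf_eq]
      refine congrArg sSup (Set.ext fun A => ⟨fun hA => ⟨le_inf hA.1 (hall A hA), hA.2.1,
        fun C hC hCc => hA.2.2 C (hC.trans inf_le_left) hCc⟩, fun hA => ⟨hA.1.trans inf_le_left, hA.2.1,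
          fun C hC hCc => (hA₀.2.2 C hC hCc).trans
            (hA.2.2 A₀ (le_inf hA₀.1 (hall A₀ hA₀)) hA₀.2.1)⟩⟩)
    have hS : ¬ p ∣ (R.subgroupOf K).index := by
      rw [← relIndex, inf_relIndex_right]
      exact Solv.not_dvd_relIndex_of_isSubnormal P (Subgroup.Normal.isSubnormal inferInstance)
    let RS : Sylow p K := ((P.isPGroup'.to_le inf_le_left).of_equiv
      (subgroupOfEquivOfLe (inf_le_right : R ≤ K)).symm).toSylow hS
    refine hnn (eq_top_iff.2 ?_)
    rw [← Sylow.normalizer_sup_eq_top RS]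
    refine sup_le ?_ (hKT.trans hCN)
    rw [IsPGroup.toSylow_coe, map_subgroupOf_eq_of_le (inf_le_right : R ≤ K)]
    exact ((ThompsonA.normalizer_le_normalizer_thompsonSubgroupAOf R).trans (by rw [hJR])).trans hJ
  push Not at hall
  obtain ⟨A₀, hA₀, hA₀K⟩ := hall
  have hAc : ∀ a ∈ A₀, ∀ b ∈ A₀, a * b = b * a := fun a ha b hb =>
    congrArg Subtype.val (hA₀.2.1.is_comm.comm ⟨a, ha⟩ ⟨b, hb⟩)
  haveI := hV.1
  have hVc : ∀ a ∈ V, ∀ b ∈ V, a * b = b * a := fun a ha b hb => hWc a ha.1 b hb.1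
  have hA₀V : A₀ ≤ normalizer (V : Set G) := by rw [normalizer_eq_top]; exact le_top
  have hab : ⁅A₀, A₀⁆ ≤ centralizer (V : Set G) := commutator_le.2 fun a ha b hb => by
    rw [commutatorElement_eq_one_iff_mul_comm.2 (hAc a ha b hb)]; exact one_mem _
  -- the offender
  have hmax : ∀ B ≤ A₀, Nat.card B * Nat.card (V ⊓ centralizer (B : Set G) : Subgroup G) ≤
      Nat.card A₀ * Nat.card (V ⊓ centralizer (A₀ : Set G) : Subgroup G) := by
    intro B hB
    set C := V ⊓ centralizer (B : Set G)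
    have hBC : IsMulCommutative ↥(B ⊔ C) := by
      rw [← closure_eq B, ← closure_eq C, ← Subgroup.closure_union]
      refine isMulCommutative_closure ?_
      rintro a (ha | ha) b (hb | hb)
      · exact hAc a (hB ha) b (hB hb)
      · exact mem_centralizer_iff.1 hb.2 a ha
      · exact (mem_centralizer_iff.1 ha.2 b hb).symm
      · exact hVc a ha.1 b hb.1
    refine (Timmesfeld.card_mul_card_le B C).trans ?_
    rw [mul_comm]
    refine Nat.mul_le_mul (hA₀.2.2 _ (sup_le (hB.trans hA₀.1) (inf_le_left.trans hVP)) hBC)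
      (card_le_of_le fun x hx => mem_inf.2 ⟨hx.2.1, mem_centralizer_iff.2 fun a ha => hAc a ha x (hB hx.1)⟩)
  obtain ⟨hfix, hcard⟩ := Timmesfeld.replacement V A₀ hA₀V hab hmax (le_refl V)
  set A := A₀ ⊓ centralizer ((⁅V, A₀⁆ : Subgroup G) : Set G) with hAdef
  have hAA₀ : A ≤ A₀ := inf_le_left
  have hAK : ¬ A ≤ centralizer (V : Set G) := by
    intro hA
    rw [inf_eq_left.2 (le_centralizer_iff.1 hA)] at hfix
    have hX : ⁅V, A₀⁆ ≤ ⁅⁅V, A₀⁆, A₀⁆ := by
      refine commutator_le.2 fun v hv a ha => ?_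
      have hXV : ⁅V, A₀⁆ ≤ V := commutator_le_left V A₀
      have hn : ⁅V, A₀⁆ ≤ normalizer ((V ⊓ centralizer (A₀ : Set G) : Subgroup G) : Set G) := fun x hx =>
        mem_normalizer_fintype fun c hc => by
          rw [SetLike.mem_coe] at hc ⊢
          rwa [hVc x (hXV hx) c hc.1, mul_inv_cancel_right]
      have hv' : v ∈ ((⁅V, A₀⁆ ⊔ (V ⊓ centralizer (A₀ : Set G)) : Subgroup G) : Set G) := hfix.le hv
      rw [Subgroup.coe_mul_of_left_le_normalizer_right _ _ hn] at hv'
      obtain ⟨x, hx, c, hc, rfl⟩ := Set.mem_mul.1 hv'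
      have : ⁅x * c, a⁆ = ⁅x, a⁆ := by
        simp only [commutatorElement_def, _root_.mul_inv_rev]
        calc x * c * a * (c⁻¹ * x⁻¹) * a⁻¹ = x * (c * a) * c⁻¹ * x⁻¹ * a⁻¹ := by group
          _ = x * (a * c) * c⁻¹ * x⁻¹ * a⁻¹ := by rw [mem_centralizer_iff.1 hc.2 a ha]
          _ = x * a * x⁻¹ * a⁻¹ := by group
      rw [this]
      exact commutator_mem_commutator hx ha
    have h0 := eq_bot_of_le_commutator_of_le P.isPGroup' hA₀.1 ((commutator_le_left V A₀).trans hVP) hX
    exact hA₀K (hcent ▸ le_centralizer_iff.1 (commutator_eq_bot_iff_le_centralizer.1 h0))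
  have hAea : Cfsg.IsElementaryAbelian p (A.map f) := by
    refine ⟨⟨⟨?_⟩⟩, ?_⟩
    · rintro ⟨_, a, ha, rfl⟩ ⟨_, b, hb, rfl⟩
      refine Subtype.ext ?_
      show f a * f b = f b * f a
      rw [← map_mul, hAc a (hAA₀ ha) b (hAA₀ hb), map_mul]
    · rintro _ ⟨a, ha, rfl⟩
      rw [← map_pow, ← MonoidHom.mem_ker, hker]
      refine mem_centralizer_iff.2 fun v hv => ?_
      set c := a * v * a⁻¹ * v⁻¹ with hc
      have hcV : c ∈ V := mul_mem (hVn.conj_mem v hv a) (inv_mem hv)
      have hca : a * c = c * a := by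
        refine ((mem_centralizer_iff.1 ha.2) c ?_).symm
        rw [SetLike.mem_coe, commutator_comm]
        exact commutator_mem_commutator (hAA₀ ha) hv
      have hk : ∀ k : ℕ, a ^ k * v * (a ^ k)⁻¹ = c ^ k * v := by
        intro k
        induction k with
        | zero => simp
        | succ k ih =>
          calc a ^ (k + 1) * v * (a ^ (k + 1))⁻¹ = a * (a ^ k * v * (a ^ k)⁻¹) * a⁻¹ := by
                rw [pow_succ']; group
            _ = (a * c ^ k * a⁻¹) * (a * v * a⁻¹) := by rw [ih]; group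
            _ = c ^ k * (c * v) := by
                rw [((show Commute a c from hca).pow_right k).eq, mul_inv_cancel_right]
                rw [show a * v * a⁻¹ = c * v by rw [hc]; group]
            _ = c ^ (k + 1) * v := by rw [pow_succ]; exact (mul_assoc _ _ _).symm
      have := hk p
      rw [hcV.2, one_mul] at this
      exact (mul_inv_eq_iff_eq_mul.1 this).symm
  have hA1 : A.map f ≠ ⊥ := fun e => hAK (by rwa [Subgroup.map_eq_bot_iff, hker] at e)
  have hbound : Nat.card ↥(modV V) ≤ Nat.card ↥(A.map f) * Nat.card ↥(fx (modV V) (A.map f)) := by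
    rw [FF.card_modV, show Nat.card ↥(fx (modV V) (A.map f)) = _ from FF.card_fixed V A]
    set C := centralizer (V : Set G)
    have h1 := hmax (A₀ ⊓ C) inf_le_left
    rw [inf_eq_left.2 (le_centralizer_iff.1 inf_le_right), hcard] at h1
    have h3 : Nat.card ↥(A ⊓ C : Subgroup G) * Nat.card ↥(A.map f) = Nat.card A := by
      have h := Core.card_mul_relIndex (inf_le_left : A ⊓ C ≤ A)
      rw [inf_comm A C, inf_relIndex_right, show C.relIndex A = f.ker.relIndex A from hker.symm ▸ rfl,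
        relIndex_ker] at h
      rwa [inf_comm A C]
    rw [← h3, mul_assoc] at h1
    refine Nat.le_of_mul_le_mul_left (le_trans (le_trans (Nat.mul_le_mul_right _ ?_) h1) le_rfl) Nat.card_pos
    exact card_le_of_le (inf_le_inf_right _ hAA₀)
  -- the hypotheses in the model
  have hfaith : f.range ⊓ centralizer ((modV V : Subgroup (Model V)) : Set (Model V)) = ⊥ := by
    rw [MonoidHom.range_eq_map]
    exact FF.modV_centralizer_inf V ⊤
  have hOp : ∀ U : Subgroup (Model V), U ≤ f.range → IsPGroup p ↥U →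
      f.range ≤ normalizer (U : Set (Model V)) → U = ⊥ := by
    intro U hU hUp hUn
    have hDn : (U.comap f).Normal := ⟨fun d hd g => by
      show f (g * d * g⁻¹) ∈ U
      rw [map_mul, map_mul, map_inv]
      exact (mem_normalizer_iff.1 (hUn ⟨g, rfl⟩) _).1 hd⟩
    have hD : U.comap f ≤ K := hle _ hDn fun y hy hyc => by
      rw [← hcent, ← hker, MonoidHom.mem_ker]
      obtain ⟨k, hk⟩ := hUp ⟨f y, hy⟩
      exact orderOf_eq_one_iff.1 (Nat.eq_one_of_dvd_coprimes ((hyc.pow_right k))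
        (orderOf_map_dvd f y) (orderOf_dvd_of_pow_eq_one (congrArg Subtype.val hk)))
    refine le_bot_iff.1 fun u hu => ?_
    obtain ⟨d, rfl⟩ := hU hu
    exact mem_bot.2 (MonoidHom.mem_ker.1 ((hker.trans hcent).ge (hD hu)))
  have hsyl : ∀ U : Subgroup (Model V), U ≤ f.range → IsPGroup p ↥U →
      ∃ g ∈ f.range, U ≤ cj g ((P : Subgroup G).map f) := by
    intro U hU hUp
    set T' := P.mapSurjective f.rangeRestrict_surjective
    obtain ⟨S, hS⟩ := (hUp.comap_of_injective f.range.subtype f.range.subtype_injective :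
      IsPGroup p ↥(U.subgroupOf f.range)).exists_le_sylow
    obtain ⟨g, hg⟩ := MulAction.exists_smul_eq ↥f.range T' S
    refine ⟨g, g.2, fun x hx => ?_⟩
    have h1 : (⟨x, hU hx⟩ : ↥f.range) ∈ (g • T' : Sylow p ↥f.range) := hg ▸ hS (mem_subgroupOf.2 hx)
    obtain ⟨s, hs, hsx⟩ := h1
    obtain ⟨t, ht, rfl⟩ := hs
    exact ⟨f t, ⟨t, ht, rfl⟩, congrArg Subtype.val hsx⟩
  set M := normalizer (T : Set G) with hM
  have hPre : Pre p (modV V) f.range ((P : Subgroup G).map f) (M.map f) := by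
    refine ⟨FF.isEA_modV V hV, ?_, hfaith, map_le_range _ _, P.isPGroup'.map _, hsyl, ?_,
      map_mono (hPT.trans hCN), ?_, ?_, hOp⟩
    · rw [MonoidHom.range_eq_map]
      exact FF.map_le_normalizer_modV V ⊤
    · refine lt_of_le_of_ne (map_le_range _ _) fun e => hnn (eq_top_iff.2 fun g _ => ?_)
      obtain ⟨m, hm, em⟩ := e.ge (⟨g, rfl⟩ : f g ∈ f.range)
      have : m⁻¹ * g ∈ f.ker := by rw [MonoidHom.mem_ker, map_mul, map_inv, em, inv_mul_cancel]
      simpa using mul_mem hm (hkerN this)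
    · intro L hL hPL
      by_cases htop : L.comap f = ⊤
      · refine .inr (le_antisymm hL ?_)
        rintro _ ⟨g, rfl⟩
        exact htop.ge (mem_top g)
      · refine .inl fun x hx => ?_
        obtain ⟨g, rfl⟩ := hL hx
        exact ⟨g, hproper _ (map_le_iff_le_comap.1 hPL) htop hx, rfl⟩
    · intro hn
      have := hOp _ (map_le_range _ _) (P.isPGroup'.map _) hn
      exact hA1 (le_bot_iff.1 ((map_mono (hAA₀.trans hA₀.1)).trans this.le))
  have hgen : modV V ⊔ f.range = ⊤ := by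
    refine eq_top_iff.2 fun x _ => ?_
    rw [← SemidirectProduct.inl_left_mul_inr_right x]
    refine mul_mem_sup ⟨x.left, rfl⟩ ?_
    obtain ⟨g, hg⟩ := QuotientGroup.mk'_surjective _ x.right
    exact ⟨g, congrArg _ hg⟩
  have hAr : A.map f ≤ f.range := map_le_range _ _
  have hCT : f.range ⊓ centralizer ((fx (modV V) ((P : Subgroup G).map f) : Subgroup (Model V)) : Set (Model V)) ≤
      M.map f :=
    (hPre.huniq _ inf_le_left (le_inf (map_le_range _ _) (le_centralizer_iff.1 inf_le_right))).resolve_right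
      fun e => PMinOff.no_central _ rfl hPre hgen hAea hAr hA1 hbound (e.ge.trans inf_le_right)
  obtain ⟨B, hBA, hB, hB1, hBb, hBs⟩ := PMinOff.exists_min_offender hAea hA1 hbound
  have hconf : Conf p (modV V) f.range ((P : Subgroup G).map f) (M.map f) B :=
    { hV := hPre.hV, hPV := hPre.hPV, hfaith := hPre.hfaith, hTP := hPre.hTP, hTp := hPre.hTp,
      hsyl := hPre.hsyl, hMP := hPre.hMP, hTM := hPre.hTM, huniq := hPre.huniq, hTn := hPre.hTn,
      hOp := hPre.hOp, hCT := hCT, hA₀P := hBA.trans hAr, hA₀ := hB, hA₀ne := hB1, hbound := hBb, hstrict := hBs }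
  obtain ⟨𝔅, hfam⟩ := conf_family hconf h2
  have ha : Ambient p (P : Subgroup G) W V :=
    { odd := h2, normal := hWn, comm := hWc, pgroup := hWp, memV := fun x => Iff.rfl, cent := hcent, wP := hWP }
  refine Family.exists_torus hfam ha hTW hTP ?_
    ((ThompsonA.normalizer_le_normalizer_thompsonSubgroupAOf _).trans hJ)
  by_contra hno
  push Not at hno
  exact hnn (eq_top_iff.2 fun g _ => hCN (mem_centralizer_iff.2 fun t ht => (hno g t ht).eq.symm))

/-- The dichotomy. -/
theorem normal_or_hasTwist (h2 : p ≠ 2) (P : Sylow p G) (T V₀ : Subgroup G) [V₀.Normal] (hV₀c : IsMulCommutative ↥V₀)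
    (hV₀p : IsPGroup p ↥V₀) (hTV₀ : T ≤ V₀) (hTP : ∀ t ∈ T, ∀ u ∈ (P : Subgroup G), Commute u t)
    (hJ : normalizer (thompsonSubgroupAOf (P : Subgroup G) : Set G) ≤ normalizer (T : Set G)) :
    normalizer (T : Set G) = ⊤ ∨ HasTwist p T := by
  suffices key : ∀ (n : ℕ) (G : Type u) [Group G] [Finite G], Nat.card G ≤ n → ∀ (P : Sylow p G)
      (T V₀ : Subgroup G), V₀.Normal → IsMulCommutative ↥V₀ → IsPGroup p ↥V₀ → T ≤ V₀ →
      (∀ t ∈ T, ∀ u ∈ (P : Subgroup G), Commute u t) →
      normalizer (thompsonSubgroupAOf (P : Subgroup G) : Set G) ≤ normalizer (T : Set G) →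
      normalizer (T : Set G) = ⊤ ∨ HasTwist p T from
    key _ G le_rfl P T V₀ inferInstance hV₀c hV₀p hTV₀ hTP hJ
  intro n
  induction n with
  | zero => intro G _ _ hn; exact absurd Nat.card_pos (not_lt.2 hn)
  | succ n ih =>
    intro G _ _ hn P T V₀ hV₀n hV₀c hV₀p hTV₀ hTP hJ
    by_cases hnn : normalizer (T : Set G) = ⊤
    · exact .inl hnn
    by_cases hproper : ∀ L : Subgroup G, (P : Subgroup G) ≤ L → L ≠ ⊤ → L ≤ normalizer (T : Set G)
    · exact .inr (step h2 P T V₀ hV₀c hV₀p hTV₀ hTP hJ hproper hnn)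
    push Not at hproper
    obtain ⟨L, hPL, hL, hLT⟩ := hproper
    have hTL : T ≤ L := (hTV₀.trans (GlaubermanZJ.le_sylow_of_normal hV₀p P)).trans hPL
    have hlt : Nat.card L ≤ n := by
      have := Cfsg.Lib.Core.lt_card_of_ne_top hL
      omega
    haveI := hV₀c
    rcases ih L hlt (P.subtype hPL) (T.subgroupOf L) (V₀.subgroupOf L) inferInstance
        ⟨⟨fun a b => Subtype.ext (Subtype.ext (congrArg (Subtype.val : ↥V₀ → G)
          (mul_comm' (⟨_, a.2⟩ : ↥V₀) ⟨_, b.2⟩)))⟩⟩
        (hV₀p.comap_of_injective L.subtype L.subtype_injective) (fun t ht => hTV₀ ht)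
        (fun t ht u hu => Subtype.ext (hTP _ ht _ (by
          rw [Sylow.coe_subtype, mem_subgroupOf] at hu; exact hu)).eq)
        (fun m hm => by
          have h1 : (m : G) ∈ normalizer (thompsonSubgroupAOf (P : Subgroup G) : Set G) := by
            have h2 := le_normalizer_map L.subtype (mem_map_of_mem L.subtype hm)
            rwa [ThompsonA.map_thompsonSubgroupAOf L.subtype _ L.subtype_injective.injOn,
              Sylow.coe_subtype, map_subgroupOf_eq_of_le hPL] at h2
          exact mem_normalizer_iff.2 fun x => (mem_normalizer_iff.1 (hJ h1) (x : G))) with h | h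
    · exfalso
      refine hLT fun l hl => mem_normalizer_fintype fun t ht => ?_
      exact (mem_normalizer_iff.1 (h.ge (mem_top (⟨l, hl⟩ : ↥L))) ⟨t, hTL ht⟩).1 ht
    · refine .inr ?_
      have h1 := h.map L.subtype L.subtype_injective
      rwa [map_subgroupOf_eq_of_le hTL] at h1

end Cfsg.Lib.Local.BlockTorus
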