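import Cfsg.Agent.Lib.Linear.GLTwo
import Cfsg.Agent.Lib.Local.Baumann.Moved

/-!
# One block acting on an abelian `p`-group

`W` is a normal abelian `p`-group, `V` the subgroup of its elements of order dividing `p`, and a
subgroup `E` acts on `V` as `SL₂(F)` on a natural module modulo fixed points. For odd `p` the
elements of `W` inverted by the central involution of the block and fixed by its Sylow subgroup
have order dividing `p`, and those it fixes are fixed by the whole block.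
-/

set_option autoImplicit false
set_option linter.style.haveILetI false
set_option linter.unusedSectionVars false

namespace Cfsg.Lib.Local.BlockTorus

open Subgroup Matrix Cfsg.Lib.Linear.Two
open scoped MatrixGroups commutatorElement

variable {G : Type*} [Group G] {p : ℕ}

/-- The hypotheses on `W` and its subgroup of elements of order dividing `p`. -/
structure Ambient (p : ℕ) (P W V : Subgroup G) : Prop where
  odd : p ≠ 2
  normal : W.Normal
  comm : ∀ a ∈ W, ∀ b ∈ W, a * b = b * a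
  pgroup : IsPGroup p ↥W
  memV : ∀ x, x ∈ V ↔ x ∈ W ∧ x ^ p = 1
  cent : centralizer (V : Set G) = centralizer (W : Set G)
  wP : W ≤ P

/-- A block: `ρ` and `φ` are only relevant on `E` and on `V`. -/
structure Block {F : Type*} [Field F] (V E : Subgroup G) (ρ : G → SL(2, F)) (φ : G → Fin 2 → F) :
    Prop where
  ker_le : centralizer (V : Set G) ≤ E
  ρ_mul : ∀ a ∈ E, ∀ b ∈ E, ρ (a * b) = ρ a * ρ b
  ρ_surj : ∀ M, ∃ a ∈ E, ρ a = M
  ρ_ker : ∀ a ∈ E, (ρ a = 1 ↔ a ∈ centralizer (V : Set G))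
  φ_mul : ∀ v ∈ V, ∀ w ∈ V, φ (v * w) = φ v + φ w
  φ_surj : ∀ x, ∃ v ∈ V, φ v = x
  φ_ker : ∀ v ∈ V, (φ v = 0 ↔ v ∈ centralizer (E : Set G))
  φ_act : ∀ a ∈ E, ∀ v ∈ V, φ (a * v * a⁻¹) = ((ρ a : SL(2, F)) : Matrix (Fin 2) (Fin 2) F) *ᵥ φ v

/-- The element with its fixed part under `z` removed. -/
def ii (z x : G) : G := x * (z * x * z⁻¹)⁻¹

/-- The fixed part under `z`. -/
def cc (z x : G) : G := x * (z * x * z⁻¹)

variable {P W V E : Subgroup G} {F : Type*} [Field F] {ρ : G → SL(2, F)} {φ : G → Fin 2 → F}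

theorem Ambient.V_le (ha : Ambient p P W V) : V ≤ W := fun x hx => ((ha.memV x).1 hx).1

theorem Ambient.conjW (ha : Ambient p P W V) {x : G} (hx : x ∈ W) (g : G) : g * x * g⁻¹ ∈ W :=
  ha.normal.conj_mem x hx g

theorem Ambient.conjV (ha : Ambient p P W V) {x : G} (hx : x ∈ V) (g : G) : g * x * g⁻¹ ∈ V := by
  obtain ⟨h1, h2⟩ := (ha.memV x).1 hx
  exact (ha.memV _).2 ⟨ha.conjW h1 g, by rw [conj_pow, h2, mul_one, mul_inv_cancel]⟩

/-- Elements congruent modulo the centralizer act alike. -/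
theorem Ambient.conj_eq (ha : Ambient p P W V) {a b x : G} (h : a⁻¹ * b ∈ centralizer (V : Set G)) (hx : x ∈ W) :
    b * x * b⁻¹ = a * x * a⁻¹ := by
  rw [ha.cent] at h
  have h1 : x * (a⁻¹ * b) = a⁻¹ * b * x := mem_centralizer_iff.1 h x hx
  calc b * x * b⁻¹ = a * (a⁻¹ * b * x) * b⁻¹ := by group
    _ = a * (x * (a⁻¹ * b)) * b⁻¹ := by rw [h1]
    _ = a * x * a⁻¹ := by group

theorem Ambient.centV_normal (ha : Ambient p P W V) : (centralizer (V : Set G)).Normal := by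
  haveI := ha.normal
  rw [ha.cent]
  infer_instance

theorem Ambient.mem_of_sq_mem [Finite G] [Fact p.Prime] (ha : Ambient p P W V) {H : Subgroup G} {x : G} (hx : x ∈ W)
    (h : x ^ 2 ∈ H) : x ∈ H := by
  obtain ⟨k, hk⟩ := ha.pgroup ⟨x, hx⟩
  have hk' : x ^ p ^ k = 1 := congrArg Subtype.val hk
  obtain ⟨j, hj⟩ := ((Fact.out : p.Prime).odd_of_ne_two ha.odd).pow (n := k)
  have h2 : (x ^ 2) ^ (j + 1) = x := by
    rw [← pow_mul, show 2 * (j + 1) = p ^ k + 1 by omega, pow_succ, hk', one_mul]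
  rw [← h2]
  exact pow_mem h _

theorem Ambient.eq_one_of_sq [Finite G] [Fact p.Prime] (ha : Ambient p P W V) {x : G} (hx : x ∈ W)
    (h : x ^ 2 = 1) : x = 1 :=
  mem_bot.1 (ha.mem_of_sq_mem hx (mem_bot.2 h))

namespace Block

variable (hb : Block V E ρ φ)
include hb

theorem ρ_one : ρ 1 = 1 := by
  have h := hb.ρ_mul 1 E.one_mem 1 E.one_mem
  rw [mul_one] at h
  exact mul_eq_left.1 h.symm

theorem ρ_inv {a : G} (h : a ∈ E) : ρ a⁻¹ = (ρ a)⁻¹ :=
  eq_inv_of_mul_eq_one_left (by rw [← hb.ρ_mul _ (inv_mem h) _ h, inv_mul_cancel, hb.ρ_one])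

theorem ρ_pow {a : G} (h : a ∈ E) : ∀ n : ℕ, ρ (a ^ n) = ρ a ^ n
  | 0 => by rw [pow_zero, pow_zero, hb.ρ_one]
  | n + 1 => by rw [pow_succ, pow_succ, hb.ρ_mul _ (pow_mem h n) _ h, ρ_pow h n]

theorem φ_one : φ 1 = 0 := (hb.φ_ker 1 V.one_mem).2 (one_mem _)

theorem φ_inv {v : G} (h : v ∈ V) : φ v⁻¹ = -φ v :=
  eq_neg_of_add_eq_zero_left (by rw [← hb.φ_mul _ (inv_mem h) _ h, inv_mul_cancel, hb.φ_one])

theorem mem_cent_of_ρ_eq {a b : G} (ha : a ∈ E) (hb' : b ∈ E) (h : ρ a = ρ b) :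
    a⁻¹ * b ∈ centralizer (V : Set G) :=
  (hb.ρ_ker _ (mul_mem (inv_mem ha) hb')).1 (by rw [hb.ρ_mul _ (inv_mem ha) _ hb', hb.ρ_inv ha, h, inv_mul_cancel])

theorem ρ_eq_of_mem_cent {a b : G} (ha : a ∈ E) (h : a⁻¹ * b ∈ centralizer (V : Set G)) : ρ b = ρ a := by
  have hk := hb.ker_le h
  have h1 := hb.ρ_mul a ha _ hk
  rw [mul_inv_cancel_left, (hb.ρ_ker _ hk).2 h, mul_one] at h1
  exact h1

/-- An element with image `-1` is central in the block modulo the centralizer. -/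
theorem z_comm {z a : G} (hz : z ∈ E) (hρ : ρ z = -1) (ha : a ∈ E) :
    (a * z)⁻¹ * (z * a) ∈ centralizer (V : Set G) := by
  refine hb.mem_cent_of_ρ_eq (mul_mem ha hz) (mul_mem hz ha) ?_
  rw [hb.ρ_mul _ ha _ hz, hb.ρ_mul _ hz _ ha, hρ]
  simp

theorem z_sq {z : G} (hz : z ∈ E) (hρ : ρ z = -1) : z * z ∈ centralizer (V : Set G) :=
  (hb.ρ_ker _ (mul_mem hz hz)).1 (by rw [hb.ρ_mul _ hz _ hz, hρ]; simp)

theorem φ_z {z v : G} (hz : z ∈ E) (hρ : ρ z = -1) (hv : v ∈ V) : φ (z * v * z⁻¹) = -φ v := by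
  rw [hb.φ_act z hz v hv, hρ]
  simp [Matrix.neg_mulVec]

variable [Finite G] [Fact p.Prime] (ha : Ambient p P W V) {z : G} (hz : z ∈ E) (hρ : ρ z = -1)
include ha hz hρ

omit [Finite G] [Fact p.Prime] in
theorem z_twice {x : G} (hx : x ∈ W) : z * (z * x * z⁻¹) * z⁻¹ = x := by
  have h := ha.conj_eq (a := 1) (b := z * z) (x := x) (by simpa using hb.z_sq hz hρ) hx
  rw [one_mul, inv_one, mul_one] at h
  calc z * (z * x * z⁻¹) * z⁻¹ = z * z * x * (z * z)⁻¹ := by group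
    _ = x := h

omit [Finite G] [Fact p.Prime] hb hρ in
theorem ii_mem {x : G} (hx : x ∈ W) : ii z x ∈ W := mul_mem hx (inv_mem (ha.conjW hx z))

omit [Finite G] [Fact p.Prime] in
theorem ii_inverted {x : G} (hx : x ∈ W) : z * ii z x * z⁻¹ = (ii z x)⁻¹ := by
  have h : z * ii z x * z⁻¹ = (z * x * z⁻¹) * (z * (z * x * z⁻¹) * z⁻¹)⁻¹ := by
    simp only [ii]; group
  rw [h, hb.z_twice ha hz hρ hx, ii, _root_.mul_inv_rev, inv_inv]

omit [Finite G] [Fact p.Prime] in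
theorem cc_fixed {x : G} (hx : x ∈ W) : z * cc z x * z⁻¹ = cc z x := by
  have h : z * cc z x * z⁻¹ = (z * x * z⁻¹) * (z * (z * x * z⁻¹) * z⁻¹) := by
    simp only [cc]; group
  rw [h, hb.z_twice ha hz hρ hx, cc, ha.comm _ hx _ (ha.conjW hx z)]

omit [Finite G] [Fact p.Prime] hb hρ in
theorem cc_mul_ii {x : G} (hx : x ∈ W) : cc z x * ii z x = x ^ 2 := by
  have hy := ha.conjW hx z
  have h : x * (z * x * z⁻¹) = (z * x * z⁻¹) * x := ha.comm _ hx _ hy
  calc cc z x * ii z x = x * ((z * x * z⁻¹) * x) * (z * x * z⁻¹)⁻¹ := by simp only [cc, ii]; group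
    _ = x * (x * (z * x * z⁻¹)) * (z * x * z⁻¹)⁻¹ := by rw [h]
    _ = x ^ 2 := by rw [pow_two]; group

omit [Finite G] [Fact p.Prime] in
/-- The block preserves the set of inverted elements. -/
theorem inverted_conj {a x : G} (haE : a ∈ E) (hx : x ∈ W) (hi : z * x * z⁻¹ = x⁻¹) :
    z * (a * x * a⁻¹) * z⁻¹ = (a * x * a⁻¹)⁻¹ := by
  calc z * (a * x * a⁻¹) * z⁻¹ = z * a * x * (z * a)⁻¹ := by group
    _ = a * z * x * (a * z)⁻¹ := ha.conj_eq (hb.z_comm hz hρ haE) hx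
    _ = a * (z * x * z⁻¹) * a⁻¹ := by group
    _ = (a * x * a⁻¹)⁻¹ := by rw [hi]; group

omit [Finite G] [Fact p.Prime] in
/-- The block preserves the fixed points of the involution. -/
theorem fixed_conj {a x : G} (haE : a ∈ E) (hx : x ∈ W) (hi : z * x * z⁻¹ = x) :
    z * (a * x * a⁻¹) * z⁻¹ = a * x * a⁻¹ := by
  calc z * (a * x * a⁻¹) * z⁻¹ = z * a * x * (z * a)⁻¹ := by group
    _ = a * z * x * (a * z)⁻¹ := ha.conj_eq (hb.z_comm hz hρ haE) hx
    _ = a * (z * x * z⁻¹) * a⁻¹ := by group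
    _ = a * x * a⁻¹ := by rw [hi]

/-- An inverted element of `V` vanishing in the natural module is trivial. -/
theorem eq_one_of_inverted {v : G} (hv : v ∈ V) (hi : z * v * z⁻¹ = v⁻¹) (h0 : φ v = 0) : v = 1 := by
  refine ha.eq_one_of_sq (ha.V_le hv) ?_
  have h := mem_centralizer_iff.1 ((hb.φ_ker v hv).1 h0) z hz
  have h1 : v = v⁻¹ := by rw [← hi, h, mul_inv_cancel_right]
  rw [pow_two]
  nth_rw 2 [h1]
  exact mul_inv_cancel v

theorem inverted_ext {v w : G} (hv : v ∈ V) (hw : w ∈ V) (hiv : z * v * z⁻¹ = v⁻¹)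
    (hiw : z * w * z⁻¹ = w⁻¹) (h : φ v = φ w) : v = w := by
  refine mul_inv_eq_one.1 (hb.eq_one_of_inverted ha hz hρ (mul_mem hv (inv_mem hw)) ?_ ?_)
  · calc z * (v * w⁻¹) * z⁻¹ = (z * v * z⁻¹) * (z * w * z⁻¹)⁻¹ := by group
      _ = v⁻¹ * w := by rw [hiv, hiw, inv_inv]
      _ = w * v⁻¹ := ha.comm _ (inv_mem (ha.V_le hv)) _ (ha.V_le hw)
      _ = (v * w⁻¹)⁻¹ := by group
  · rw [hb.φ_mul _ hv _ (inv_mem hw), hb.φ_inv hw, h, add_neg_cancel]

omit [Finite G] [Fact p.Prime] in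
theorem φ_ii {v : G} (hv : v ∈ V) : φ (ii z v) = φ v + φ v := by
  rw [ii, hb.φ_mul _ hv _ (inv_mem (ha.conjV hv z)), hb.φ_inv (ha.conjV hv z), hb.φ_z hz hρ hv, neg_neg]

/-- A commutator of an element of the block with an element of `V` is inverted. -/
theorem bracket_inverted {a v : G} (haE : a ∈ E) (hv : v ∈ V) :
    z * (a * v * a⁻¹ * v⁻¹) * z⁻¹ = (a * v * a⁻¹ * v⁻¹)⁻¹ := by
  set d : G → G := fun x => a * x * a⁻¹ * x⁻¹ with hd
  have hvW := ha.V_le hv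
  let I : Subgroup G :=
    { carrier := {x | x ∈ W ∧ z * x * z⁻¹ = x⁻¹}
      one_mem' := ⟨one_mem _, by simp⟩
      mul_mem' := fun {x y} hx hy => ⟨mul_mem hx.1 hy.1, by
        calc z * (x * y) * z⁻¹ = (z * x * z⁻¹) * (z * y * z⁻¹) := by group
          _ = x⁻¹ * y⁻¹ := by rw [hx.2, hy.2]
          _ = y⁻¹ * x⁻¹ := ha.comm _ (inv_mem hx.1) _ (inv_mem hy.1)
          _ = (x * y)⁻¹ := by group⟩
      inv_mem' := fun {x} hx => ⟨inv_mem hx.1, by rw [← conj_inv, hx.2]⟩ }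
  suffices d v ∈ I from this.2
  have hdW : ∀ x ∈ W, d x ∈ W := fun x hx => mul_mem (ha.conjW hx a) (inv_mem hx)
  refine ha.mem_of_sq_mem (hdW v hvW) ?_
  have hd2 : d v ^ 2 = d (cc z v) * d (ii z v) := by
    have hmul : ∀ x ∈ W, ∀ y ∈ W, d (x * y) = d x * d y := fun x hx y hy => by
      calc d (x * y) = (a * x * a⁻¹) * ((a * y * a⁻¹ * y⁻¹) * x⁻¹) := by simp only [hd]; group
        _ = (a * x * a⁻¹) * (x⁻¹ * (a * y * a⁻¹ * y⁻¹)) := by rw [ha.comm _ (hdW y hy) _ (inv_mem hx)]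
        _ = d x * d y := by simp only [hd]; group
    have hcW : cc z v ∈ W := mul_mem hvW (ha.conjW hvW z)
    rw [← hmul _ hcW _ (ii_mem ha hz hvW), cc_mul_ii ha hz hvW, pow_two, pow_two, hmul _ hvW _ hvW]
  rw [hd2]
  have hcV : cc z v ∈ V := mul_mem hv (ha.conjV hv z)
  have hc0 : φ (cc z v) = 0 := by
    rw [cc, hb.φ_mul _ hv _ (ha.conjV hv z), hb.φ_z hz hρ hv, add_neg_cancel]
  have hdc : d (cc z v) = 1 := by
    simp only [hd]
    rw [mem_centralizer_iff.1 ((hb.φ_ker _ hcV).1 hc0) a haE, mul_inv_cancel_right, mul_inv_cancel]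
  rw [hdc, one_mul]
  have hiW := ii_mem ha hz hvW
  exact mul_mem (show a * ii z v * a⁻¹ ∈ I from ⟨ha.conjW hiW a,
    hb.inverted_conj ha hz hρ haE hiW (hb.ii_inverted ha hz hρ hvW)⟩)
    (inv_mem (show ii z v ∈ I from ⟨hiW, hb.ii_inverted ha hz hρ hvW⟩))

/-- An inverted element fixed by the Sylow subgroup of the block has order dividing `p`. -/
theorem omega_of_inverted [CharP F p] (hS : ∀ M ∈ UT F, ∃ a ∈ P ⊓ E, ρ a = M) {i : G} (hi : i ∈ W)
    (hinv : z * i * z⁻¹ = i⁻¹) (hfix : ∀ s ∈ P ⊓ E, Commute s i) : i ^ p = 1 := by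
  by_contra hne
  obtain ⟨n, hn⟩ := ha.pgroup.exists_orderOf_eq_pow ⟨i, hi⟩
  rw [Subgroup.orderOf_mk] at hn
  have hn2 : 2 ≤ n := by
    by_contra hlt
    refine hne (orderOf_dvd_iff_pow_eq_one.1 (hn ▸ ?_))
    interval_cases n <;> simp
  set j := i ^ p ^ (n - 2)
  have hjW : j ∈ W := pow_mem hi _
  have hjp2 : (j ^ p) ^ p = 1 := by
    rw [← pow_mul, ← pow_mul, ← pow_two, ← pow_add, show n - 2 + 2 = n by omega, ← hn,
      pow_orderOf_eq_one]
  have hjp : j ^ p ≠ 1 := fun h => by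
    rw [← pow_mul, ← pow_succ, ← orderOf_dvd_iff_pow_eq_one, hn,
      Nat.pow_dvd_pow_iff_le_right (Fact.out : p.Prime).one_lt] at h
    omega
  have hjinv : z * j * z⁻¹ = j⁻¹ := by rw [← conj_pow, hinv, inv_pow]
  have hjfix : ∀ s ∈ P ⊓ E, Commute s j := fun s hs => (hfix s hs).pow_right _
  set l := j ^ p
  have hlV : l ∈ V := (ha.memV _).2 ⟨pow_mem hjW p, hjp2⟩
  have hlinv : z * l * z⁻¹ = l⁻¹ := by rw [← conj_pow, hjinv, inv_pow]
  obtain ⟨u, hu, hρu⟩ := hS (ut (Multiplicative.ofAdd (1 : F))) ⟨_, rfl⟩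
  -- the image of `l` lies on the fixed line
  have hl1 : φ l 1 = 0 := by
    have h := hb.φ_act u hu.2 l hlV
    rw [((hjfix u hu).pow_right p).eq, mul_inv_cancel_right, hρu, ut_coe] at h
    have h0 := congrFun h 0
    simp [Matrix.mulVec, dotProduct, Fin.sum_univ_two] at h0
    change φ l 0 = φ l 0 + φ l 1 at h0
    exact left_eq_add.1 h0
  obtain ⟨e, he, hρe⟩ := hb.ρ_surj (⟨!![1, 0; 1, 1], by simp [Matrix.det_fin_two]⟩ : SL(2, F))
  set v := e * j * e⁻¹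
  have hvW : v ∈ W := ha.conjW hjW e
  set d := v ^ p
  have hdl : d = e * l * e⁻¹ := conj_pow
  have hdV : d ∈ V := hdl ▸ ha.conjV hlV e
  have hud : u * d * u⁻¹ * d⁻¹ = l := by
    refine hb.inverted_ext ha hz hρ (mul_mem (ha.conjV hdV u) (inv_mem hdV)) hlV
      (hb.bracket_inverted ha hz hρ hu.2 hdV) hlinv ?_
    rw [hb.φ_mul _ (ha.conjV hdV u) _ (inv_mem hdV), hb.φ_inv hdV, hb.φ_act u hu.2 d hdV, hdl,
      hb.φ_act e he l hlV, hρu, hρe, ut_coe]
    ext k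
    fin_cases k <;> simp [dotProduct, Fin.sum_univ_two, hl1]
  -- the commutator lifts
  set b := (u * v * u⁻¹ * v⁻¹) * j⁻¹ with hbdef
  have huv : u * v * u⁻¹ * v⁻¹ ∈ W := mul_mem (ha.conjW hvW u) (inv_mem hvW)
  have hbV : b ∈ V := by
    refine (ha.memV _).2 ⟨mul_mem huv (inv_mem hjW), ?_⟩
    have hc1 : Commute (u * v * u⁻¹) v⁻¹ := ha.comm _ (ha.conjW hvW u) _ (inv_mem hvW)
    have hc2 : Commute (u * v * u⁻¹ * v⁻¹) j⁻¹ := ha.comm _ huv _ (inv_mem hjW)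
    rw [hbdef, hc2.mul_pow, hc1.mul_pow, conj_pow, inv_pow, inv_pow]
    change u * d * u⁻¹ * d⁻¹ * l⁻¹ = 1
    rw [hud, mul_inv_cancel]
  set b' := u * b * u⁻¹ * b⁻¹ with hb'def
  have hb'V : b' ∈ V := mul_mem (ha.conjV hbV u) (inv_mem hbV)
  have hb'u : u * b' * u⁻¹ = b' := by
    refine hb.inverted_ext ha hz hρ (ha.conjV hb'V u) hb'V
      (hb.inverted_conj ha hz hρ hu.2 (ha.V_le hb'V) (hb.bracket_inverted ha hz hρ hu.2 hbV))
      (hb.bracket_inverted ha hz hρ hu.2 hbV) ?_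
    rw [hb.φ_act u hu.2 b' hb'V, hb'def, hb.φ_mul _ (ha.conjV hbV u) _ (inv_mem hbV), hb.φ_inv hbV,
      hb.φ_act u hu.2 b hbV, hρu, ut_coe]
    ext k
    fin_cases k <;> simp [Matrix.mulVec, dotProduct, Fin.sum_univ_two]
  have hju : u * j * u⁻¹ = j := by rw [(hjfix u hu).eq, mul_inv_cancel_right]
  have hbW := ha.V_le hbV
  have hb'W := ha.V_le hb'V
  have hc : ∀ {x y : G}, x ∈ W → y ∈ W → Commute x y := fun hx hy => ha.comm _ hx _ hy
  have hiter : ∀ k : ℕ, u ^ k * v * (u ^ k)⁻¹ = v * j ^ k * b ^ k * b' ^ k.choose 2 := by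
    intro k
    induction k with
    | zero => simp
    | succ k ih =>
      have e1 : u * v * u⁻¹ = v * j * b := by
        rw [hbdef]
        calc u * v * u⁻¹ = (u * v * u⁻¹ * v⁻¹) * v := by group
          _ = v * (u * v * u⁻¹ * v⁻¹) := ha.comm _ huv _ hvW
          _ = v * (j * ((u * v * u⁻¹ * v⁻¹) * j⁻¹)) := by
            rw [ha.comm _ huv _ (inv_mem hjW), mul_inv_cancel_left]
          _ = _ := by rw [← mul_assoc]
      have e2 : u * b * u⁻¹ = b * b' := by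
        rw [hb'def]
        calc u * b * u⁻¹ = (u * b * u⁻¹ * b⁻¹) * b := by group
          _ = _ := ha.comm _ (mul_mem (ha.conjW hbW u) (inv_mem hbW)) _ hbW
      calc u ^ (k + 1) * v * (u ^ (k + 1))⁻¹ = u * (u ^ k * v * (u ^ k)⁻¹) * u⁻¹ := by
            rw [pow_succ']; group
        _ = (u * v * u⁻¹) * (u * j * u⁻¹) ^ k * (u * b * u⁻¹) ^ k * (u * b' * u⁻¹) ^ k.choose 2 := by
            rw [ih, conj_pow, conj_pow, conj_pow]; group
        _ = v * j * b * j ^ k * (b * b') ^ k * b' ^ k.choose 2 := by rw [e1, hju, e2, hb'u]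
        _ = v * (j * (b * j ^ k)) * (b ^ k * b' ^ k) * b' ^ k.choose 2 := by
            rw [(hc hbW hb'W).mul_pow]; group
        _ = v * (j * (j ^ k * b)) * (b ^ k * b' ^ k) * b' ^ k.choose 2 := by
            rw [(hc hbW (pow_mem hjW k)).eq]
        _ = v * j ^ (k + 1) * b ^ (k + 1) * b' ^ (k + 1).choose 2 := by
            rw [pow_succ', pow_succ', Nat.choose_succ_succ, Nat.choose_one_right, pow_add]; group
  have hup : u ^ p ∈ centralizer (V : Set G) := by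
    refine (hb.ρ_ker _ (pow_mem hu.2 p)).1 ?_
    rw [hb.ρ_pow hu.2, hρu, ← map_pow, ← ofAdd_nsmul, nsmul_one, CharP.cast_eq_zero, ofAdd_zero, map_one]
  have h1 := hiter p
  have h2 := ha.conj_eq (a := 1) (b := u ^ p) (by simpa using hup) hvW
  rw [one_mul, inv_one, mul_one] at h2
  rw [h2] at h1
  obtain ⟨m, hm⟩ := (Fact.out : p.Prime).dvd_choose_self two_ne_zero
    (lt_of_le_of_ne (Fact.out : p.Prime).two_le ha.odd.symm)
  rw [((ha.memV b).1 hbV).2, hm, pow_mul, ((ha.memV b').1 hb'V).2, one_pow, mul_one, mul_one] at h1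
  exact hjp (mul_eq_left.1 h1.symm)

/-- An element fixed by the involution and the Sylow subgroup is fixed by the block. -/
theorem commute_of_fixed [CharP F p] (hp : ¬ p ∣ P.relIndex E) {y : G} (hy : y ∈ W) (hyz : z * y * z⁻¹ = y)
    (hfix : ∀ s ∈ P ⊓ E, Commute s y) : ∀ a ∈ E, Commute a y := by
  let C₀ : Subgroup G := W ⊓ centralizer ({z} : Set G)
  have hmem : ∀ {x : G}, x ∈ C₀ ↔ x ∈ W ∧ z * x * z⁻¹ = x := fun {x} => by
    rw [mem_inf, mem_centralizer_singleton_iff, mul_inv_eq_iff_eq_mul]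
    exact ⟨fun h => ⟨h.1, h.2.symm⟩, fun h => ⟨h.1, h.2.symm⟩⟩
  set Y : Subgroup G := centralizer ({y} : Set G) with hY
  have hp' : ∀ a ∈ E, (orderOf a).Coprime p → a ∈ Y := by
    intro a haE hco
    rw [hY, mem_centralizer_singleton_iff, ← mul_inv_eq_iff_eq_mul]
    refine Baumann.fix_of_fix_omega (V := C₀) (ha.pgroup.to_le inf_le_left)
      (fun s hs t ht => ha.comm s hs.1 t ht.1) hco ?_ (fun v hv hvp => ?_) y (hmem.2 ⟨hy, hyz⟩)
    · refine mem_normalizer_fintype fun x hx => hmem.2 ?_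
      obtain ⟨h1, h2⟩ := hmem.1 hx
      exact ⟨ha.conjW h1 a, hb.fixed_conj ha hz hρ haE h1 h2⟩
    · obtain ⟨hvW, hvz⟩ := hmem.1 hv
      have hvV : v ∈ V := (ha.memV v).2 ⟨hvW, hvp⟩
      have h0 : φ v = 0 := by
        have h := hb.φ_z hz hρ hvV
        rw [hvz] at h
        have h2 : (2 : F) ≠ 0 := Ring.two_ne_zero (by rw [ringChar.eq F p]; exact ha.odd)
        ext k
        have hk := congrFun h k
        rw [Pi.neg_apply, ← add_eq_zero_iff_eq_neg, ← two_mul] at hk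
        exact (mul_eq_zero.1 hk).resolve_left h2
      rw [mem_centralizer_iff.1 ((hb.φ_ker v hvV).1 h0) a haE, mul_inv_cancel_right]
  suffices E ≤ Y from fun a haE => mem_centralizer_singleton_iff.1 (this haE)
  rw [← relIndex_eq_one]
  by_contra h1
  obtain ⟨q, hq, hqd⟩ := Nat.exists_prime_and_dvd h1
  have hPY : P ⊓ E ≤ Y := fun s hs => mem_centralizer_singleton_iff.2 (hfix s hs).eq
  by_cases hqp : q = p
  · refine hp (dvd_trans (hqp ▸ hqd) ?_)
    rw [← inf_relIndex_right P E]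
    exact relIndex_dvd_of_le_left E hPY
  · haveI := Fact.mk hq
    obtain ⟨Q⟩ : Nonempty (Sylow q ↥E) := inferInstance
    refine Q.not_dvd_index (dvd_trans hqd (index_dvd_of_le fun a haQ => ?_))
    refine mem_subgroupOf.2 (hp' a a.2 ?_)
    obtain ⟨k, hk⟩ := Q.isPGroup'.exists_orderOf_eq_pow ⟨a, haQ⟩
    rw [Subgroup.orderOf_mk, ← Subgroup.orderOf_coe] at hk
    rw [hk]
    exact Nat.Coprime.pow_left _ ((Nat.coprime_primes hq Fact.out).2 hqp)

end Block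

end Cfsg.Lib.Local.BlockTorus
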