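import Cfsg.Agent.Lib.Local.BlockTorus.Torus
import Cfsg.Agent.Lib.Local.PMinOff.LocalMain
import Cfsg.Agent.Lib.Local.PMinOff.MovesMain

/-!
# The blocks of an offender configuration, pulled back to the group

A configuration in the semidirect product of `V` with the image of `G` gives a family of blocks on `G`.
-/

set_option autoImplicit false
set_option linter.style.haveILetI false
set_option linter.unusedSectionVars false

namespace Cfsg.Lib.Local.BlockTorus

open Subgroup Matrix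
open scoped MatrixGroups commutatorElement
open FF (Model toModel modV)
open PMinOff (Conf Blocks Mem)
open OffenderPair (fx)

universe u

variable {G : Type u} [Group G] [Finite G] {p : ℕ} [hp : Fact p.Prime] {P : Sylow p G} {V M : Subgroup G}
  [V.Normal] {A₀ : Subgroup (Model V)}

local notation:max "cj" g:max K:max => Subgroup.map (MulEquiv.toMonoidHom (MulAut.conj g)) K

theorem conf_family (h : Conf p (modV V) (toModel V).range ((P : Subgroup G).map (toModel V))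
      (M.map (toModel V)) A₀) (h2 : p ≠ 2) :
    ∃ 𝔅 : Set (Subgroup G), Family p (P : Subgroup G) V 𝔅 := by
  classical
  set f := toModel V with hf
  have hker : f.ker = centralizer (V : Set G) := FF.toModel_ker V
  have hq : 3 ≤ Nat.card ↥A₀ := by
    obtain ⟨k, hk⟩ := IsPGroup.iff_card.1 (show IsPGroup p ↥A₀ from fun a =>
      ⟨1, by rw [pow_one]; exact Subtype.ext (h.hA₀.2 a a.2)⟩)
    have h1 : 1 < Nat.card ↥A₀ := (Subgroup.one_lt_card_iff_ne_bot A₀).2 h.hA₀ne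
    rw [hk] at h1 ⊢
    rcases Nat.eq_zero_or_pos k with rfl | hk0
    · simp at h1
    · have h3 : 3 ≤ p := by have := hp.out.two_le; omega
      exact h3.trans (Nat.le_self_pow hk0.ne' p)
  set 𝔅 := {E : Subgroup (Model V) | ∃ X, Mem f.range A₀ X ∧ X ≤ (P : Subgroup G).map f ∧
    E = PMinOff.Conf.LQ f.range A₀ (PMinOff.others f.range ((P : Subgroup G).map f) A₀ X)} with h𝔅
  have hb : Blocks p (modV V) f.range ((P : Subgroup G).map f) 𝔅 := h.blocks_big hq
  have hclosed : ∀ t ∈ (P : Subgroup G).map f, ∀ E ∈ 𝔅, cj t E ∈ 𝔅 := by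
    rintro t ht _ ⟨X, hX, hXT, rfl⟩
    exact ⟨cj t X, hX.conj (h.hTP ht), TrapPair.cj_le ht hXT, by
      rw [h.cj_LQ (h.hTP ht), PMinOff.cj_others (h.hTP ht) (le_normalizer ht)]⟩
  have hmap : ∀ E ∈ 𝔅, (E.comap f).map f = E := fun E hE => map_comap_eq_self (hb.le E hE)
  have hcj : ∀ (u : G) (E : Subgroup (Model V)), cj u (E.comap f) = (cj (f u) E).comap f := fun u E => by
    ext x
    rw [mem_cj, mem_comap, mem_comap, mem_cj, map_mul, map_mul, map_inv]
  haveI := h.hV.1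
  have hVc : ∀ {x y : Model V}, x ∈ modV V → y ∈ modV V → x * y = y * x := fun hx hy =>
    congrArg Subtype.val (mul_comm' (⟨_, hx⟩ : ↥(modV V)) ⟨_, hy⟩)
  refine ⟨(fun E => E.comap f) '' 𝔅, hb.nonempty.image _, ?_, ?_, ?_, ?_, ?_, ?_⟩
  · rintro _ ⟨E, hE, rfl⟩
    obtain ⟨n, hn, hblk | ⟨h2', -⟩⟩ := hb.block E hE
    swap
    · exact absurd h2' h2
    obtain ⟨F, iF, iT, hcard, ⟨iso⟩, hnorm, -, ρ₀, ψ, hR, hψs, hψk, hequ⟩ := hblk
    have hUV : ⁅modV V, E⁆ ≤ modV V :=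
      Subgroup.le_normalizer_iff_commutator_le_left.mp ((hb.le E hE).trans h.hPV)
    have hinj : Function.Injective ρ₀ :=
      ((MonoidHom.range_eq_top.1 hR).bijective_of_nat_card_le (Nat.card_congr iso.toEquiv).le).1
    let φ₀ : Model V → Fin 2 → F := fun x =>
      if hx : ∃ w : ↥(⁅modV V, E⁆ : Subgroup (Model V)), x * (w : Model V)⁻¹ ∈ fx (modV V) E then Multiplicative.toAdd (ψ hx.choose) else 0
    have hφ₀ : ∀ (x : Model V) (w : ↥(⁅modV V, E⁆ : Subgroup (Model V))), x * (w : Model V)⁻¹ ∈ fx (modV V) E →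
        φ₀ x = Multiplicative.toAdd (ψ w) := by
      intro x w hw
      have hx : ∃ w : ↥(⁅modV V, E⁆ : Subgroup (Model V)), x * (w : Model V)⁻¹ ∈ fx (modV V) E := ⟨w, hw⟩
      simp only [φ₀, dif_pos hx]
      refine congrArg Multiplicative.toAdd ?_
      have h1 := mul_mem (inv_mem hx.choose_spec) hw
      rw [show (x * (hx.choose : Model V)⁻¹)⁻¹ * (x * (w : Model V)⁻¹) = (hx.choose : Model V) * (w : Model V)⁻¹ by
        group] at h1
      have h3 : ψ (hx.choose * w⁻¹) = 1 := (hψk _).2 (mem_inf.2 ⟨(hx.choose * w⁻¹).2, h1.2⟩)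
      rwa [map_mul, map_inv, mul_inv_eq_one] at h3
    have hdec : ∀ x ∈ modV V, ∃ w : ↥(⁅modV V, E⁆ : Subgroup (Model V)), x * (w : Model V)⁻¹ ∈ fx (modV V) E := by
      intro x hx
      have hfn : ⁅modV V, E⁆ ≤ normalizer ((fx (modV V) E : Subgroup (Model V)) : Set (Model V)) := fun a ha =>
        mem_normalizer_fintype fun c hc => by
          rw [SetLike.mem_coe] at hc ⊢
          rw [hVc (hUV ha) hc.1, mul_inv_cancel_right]
          exact hc
      have hx' := hb.dec E hE hx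
      rw [← SetLike.mem_coe, Subgroup.coe_mul_of_right_le_normalizer_left _ _ hfn] at hx'
      obtain ⟨c, hc, w, hw, rfl⟩ := Set.mem_mul.1 hx'
      exact ⟨⟨w, hw⟩, by rw [mul_inv_cancel_right]; exact hc⟩
    let φ : G → Fin 2 → F := fun v =>
      if hv : v ∈ V then φ₀ (SemidirectProduct.inl (⟨v, hv⟩ : ↥V)) else 0
    let ρ : G → SL(2, F) := fun g => if hg : f g ∈ E then ρ₀ ⟨f g, hg⟩ else 1
    have hρ : ∀ {g}, (hg : f g ∈ E) → ρ g = ρ₀ ⟨f g, hg⟩ := fun hg => dif_pos hg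
    have hφ : ∀ {v}, (hv : v ∈ V) → φ v = φ₀ (SemidirectProduct.inl (⟨v, hv⟩ : ↥V)) := fun hv => dif_pos hv
    have hinlV : ∀ x : ↥V, (SemidirectProduct.inl x : Model V) ∈ modV V := fun x => ⟨x, rfl⟩
    refine ⟨F, iF, iT, ρ, φ, charP_of_card_eq_prime_pow (f := n) (by rw [Fintype.card_eq_nat_card] at *; exact hcard),
      fun g hg => ?_, fun a ha b hb' => ?_, fun N => ?_, fun a ha => ?_, fun v hv w hw => ?_, fun x => ?_,
      fun v hv => ?_, fun a ha v hv => ?_⟩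
    · show f g ∈ E
      rw [MonoidHom.mem_ker.1 (hker.ge hg)]
      exact one_mem E
    · have hab : f (a * b) ∈ E := by rw [map_mul]; exact mul_mem ha hb'
      rw [hρ hab, hρ ha, hρ hb', ← map_mul]
      exact congrArg ρ₀ (Subtype.ext (map_mul f a b))
    · obtain ⟨⟨e, he⟩, hρe⟩ := MonoidHom.range_eq_top.1 hR N
      obtain ⟨g, rfl⟩ := hb.le E hE he
      exact ⟨g, he, by rw [hρ he, hρe]⟩
    · change f a ∈ E at ha
      rw [hρ ha, ← map_one ρ₀, hinj.eq_iff]
      exact ⟨fun h1 => hker.le (congrArg Subtype.val h1),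
        fun h1 => Subtype.ext (MonoidHom.mem_ker.1 (hker.ge h1))⟩
    · obtain ⟨u₁, h1⟩ := hdec _ (hinlV ⟨v, hv⟩)
      obtain ⟨u₂, h3⟩ := hdec _ (hinlV ⟨w, hw⟩)
      rw [hφ hv, hφ hw, hφ (mul_mem hv hw), hφ₀ _ u₁ h1, hφ₀ _ u₂ h3, hφ₀ _ (u₁ * u₂) ?_, map_mul]
      · rfl
      have h4 := mul_mem h1 h3
      have e : (SemidirectProduct.inl (⟨v * w, mul_mem hv hw⟩ : ↥V) : Model V) =
          SemidirectProduct.inl (⟨v, hv⟩ : ↥V) * SemidirectProduct.inl (⟨w, hw⟩ : ↥V) := by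
        rw [← map_mul]; rfl
      rw [e, Subgroup.coe_mul, _root_.mul_inv_rev]
      have hc : (u₁ : Model V)⁻¹ * (SemidirectProduct.inl (⟨w, hw⟩ : ↥V) * (u₂ : Model V)⁻¹) =
          SemidirectProduct.inl (⟨w, hw⟩ : ↥V) * (u₂ : Model V)⁻¹ * (u₁ : Model V)⁻¹ :=
        hVc (inv_mem (hUV u₁.2)) (mul_mem (hinlV _) (inv_mem (hUV u₂.2)))
      convert h4 using 1
      rw [mul_assoc _ (u₁ : Model V)⁻¹, hc]
      group
    · obtain ⟨w, hw⟩ := hψs (Multiplicative.ofAdd x)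
      obtain ⟨v, hv⟩ := hUV w.2
      refine ⟨v, v.2, ?_⟩
      rw [hφ v.2, hφ₀ _ w (by rw [← hv]; simp), hw]
      rfl
    · obtain ⟨w, hw⟩ := hdec _ (hinlV ⟨v, hv⟩)
      rw [hφ hv, hφ₀ _ w hw]
      constructor
      · intro h0
        have hwc : (w : Model V) ∈ centralizer (E : Set (Model V)) := ((hψk w).1 h0).2
        have hxc := mul_mem hw.2 hwc
        rw [inv_mul_cancel_right] at hxc
        refine mem_centralizer_iff.2 fun g hg => ?_
        exact PMinOff.model_fix V hv (mem_centralizer_iff.1 hxc _ hg)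
      · intro hvc
        have h0 : SemidirectProduct.inl (⟨v, hv⟩ : ↥V) * ((1 : ↥(⁅modV V, E⁆ : Subgroup (Model V))) : Model V)⁻¹ ∈ fx (modV V) E := by
          rw [Subgroup.coe_one, inv_one, mul_one]
          refine mem_inf.2 ⟨hinlV _, mem_centralizer_iff.2 fun e he => ?_⟩
          obtain ⟨g, rfl⟩ := hb.le E hE he
          rw [← mul_inv_eq_iff_eq_mul, hf, FF.toModel_conj]
          refine congrArg _ (Subtype.ext ?_)
          rw [MulAut.conjNormal_apply]
          exact mul_inv_eq_iff_eq_mul.2 (mem_centralizer_iff.1 hvc g he)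
        rw [← hφ₀ _ w hw, hφ₀ _ 1 h0, map_one]
        rfl
    · change f a ∈ E at ha
      obtain ⟨w, hw⟩ := hdec _ (hinlV ⟨v, hv⟩)
      have hav : a * v * a⁻¹ ∈ V := (inferInstance : V.Normal).conj_mem v hv a
      obtain ⟨w', hw', hψw⟩ := hequ ⟨f a, ha⟩ w
      rw [hφ hv, hφ hav, hφ₀ _ w hw, hρ ha, ← hψw]
      refine hφ₀ _ w' ?_
      have e : (SemidirectProduct.inl (⟨a * v * a⁻¹, hav⟩ : ↥V) : Model V) =
          f a * SemidirectProduct.inl (⟨v, hv⟩ : ↥V) * (f a)⁻¹ := by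
        rw [hf, FF.toModel_conj]
        exact congrArg _ (Subtype.ext (MulAut.conjNormal_apply a (⟨v, hv⟩ : ↥V)).symm)
      rw [e, hw']
      have hfix := mem_centralizer_iff.1 hw.2 (f a) ha
      convert hw using 1
      calc f a * SemidirectProduct.inl (⟨v, hv⟩ : ↥V) * (f a)⁻¹ * (f a * (w : Model V) * (f a)⁻¹)⁻¹
          = f a * (SemidirectProduct.inl (⟨v, hv⟩ : ↥V) * (w : Model V)⁻¹) * (f a)⁻¹ := by group
        _ = _ := by rw [hfix, mul_inv_cancel_right]
  · rintro _ ⟨E, hE, rfl⟩ u hu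
    exact ⟨cj (f u) E, hclosed _ (mem_map_of_mem f hu) E hE, (hcj u E).symm⟩
  · rintro _ ⟨E, hE, rfl⟩ _ ⟨E', hE', rfl⟩
    obtain ⟨t, ⟨u, hu, rfl⟩, he⟩ := hb.conj E hE E' hE'
    exact ⟨u, hu, (hcj u E).trans (congrArg (fun X => X.comap f) he)⟩
  · rintro _ ⟨E, hE, rfl⟩ _ ⟨E', hE', rfl⟩ hne a ha b hb'
    rw [← hker, MonoidHom.mem_ker, map_mul, map_inv, map_mul, map_mul,
      ← mem_centralizer_iff.1 (hb.comm E hE E' hE' (fun e => hne (by rw [e])) ha) (f b) hb', inv_mul_cancel]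
  · rintro _ ⟨E, hE, rfl⟩ _ ⟨E', hE', rfl⟩ hne v hv a ha b hb'
    have hd : a * v * a⁻¹ * v⁻¹ ∈ V := mul_mem ((inferInstance : V.Normal).conj_mem v hv a) (inv_mem hv)
    refine PMinOff.model_fix V hd ?_
    refine mem_centralizer_iff.1 (hb.cross E hE E' hE' (fun e => hne (by rw [e])) ?_) (f b) hb'
    have e : (SemidirectProduct.inl (⟨a * v * a⁻¹ * v⁻¹, hd⟩ : ↥V) : Model V) =
        ⁅f a, (SemidirectProduct.inl (⟨v, hv⟩ : ↥V) : Model V)⁆ := by
      rw [commutatorElement_def, hf, FF.toModel_conj, ← map_inv, ← map_mul]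
      exact congrArg _ (Subtype.ext (by rw [Subgroup.coe_mul, MulAut.conjNormal_apply]; rfl))
    rw [e, commutator_comm]
    exact commutator_mem_commutator ha ⟨_, rfl⟩
  · rw [eq_top_iff]
    set X := sSup ((fun E => E.comap f) '' 𝔅) ⊔ (P : Subgroup G)
    have hkX : f.ker ≤ X := by
      obtain ⟨E, hE⟩ := hb.nonempty
      exact le_sup_of_le_left ((ker_le_comap f E).trans (le_sSup ⟨E, hE, rfl⟩))
    have hmX : f.range ≤ X.map f := by
      rw [← hb.gen]
      refine sup_le (sSup_le fun E hE => (hmap E hE).ge.trans (map_mono (le_sup_of_le_left (le_sSup ⟨E, hE, rfl⟩))))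
        (map_mono le_sup_right)
    intro g _
    obtain ⟨x, hx, hxg⟩ := hmX ⟨g, rfl⟩
    have hk : x⁻¹ * g ∈ f.ker := by rw [MonoidHom.mem_ker, map_mul, map_inv, hxg, inv_mul_cancel]
    simpa using mul_mem hx (hkX hk)

end Cfsg.Lib.Local.BlockTorus
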