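import Cfsg.Agent.Lib.Local.BlockTorus.Block
import Cfsg.Agent.Lib.Local.SubnormalSylow
import Cfsg.Agent.Lib.Core.Cores
import Mathlib.Algebra.CharP.CharAndCard
import Mathlib.Data.Finset.NoncommProd
import Mathlib.RingTheory.IntegralDomain

/-!
# A torus element of a family of blocks

`T ≤ W` is fixed by the Sylow subgroup `P` and not normal, and a family of commuting blocks permuted
transitively by `P` generates the group with `P`. The product over the family of suitable diagonal elements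
normalizes `P` modulo the centralizer of `W`; it induces on `T` an automorphism of order prime to `p` that
is transitive on the non-identity elements of its commutator with `T`.
-/

set_option autoImplicit false
set_option linter.style.haveILetI false
set_option linter.unusedSectionVars false

namespace Cfsg.Lib.Local.BlockTorus

open Subgroup Matrix Cfsg.Lib.Linear.Two
open scoped MatrixGroups commutatorElement

variable {G : Type*} [Group G] {p : ℕ}

local notation:max "cj" g:max K:max => Subgroup.map (MulEquiv.toMonoidHom (MulAut.conj g)) K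

/-- A family of blocks. -/
structure Family (p : ℕ) (P V : Subgroup G) (𝔅 : Set (Subgroup G)) : Prop where
  nonempty : 𝔅.Nonempty
  block : ∀ E ∈ 𝔅, ∃ (F : Type) (_ : Field F) (_ : Fintype F) (ρ : G → SL(2, F)) (φ : G → Fin 2 → F),
    CharP F p ∧ Block V E ρ φ
  conj : ∀ E ∈ 𝔅, ∀ u ∈ P, cj u E ∈ 𝔅
  trans : ∀ E ∈ 𝔅, ∀ E' ∈ 𝔅, ∃ u ∈ P, cj u E = E'
  comm : ∀ E ∈ 𝔅, ∀ E' ∈ 𝔅, E ≠ E' → ∀ a ∈ E, ∀ b ∈ E', (a * b)⁻¹ * (b * a) ∈ centralizer (V : Set G)
  cross : ∀ E ∈ 𝔅, ∀ E' ∈ 𝔅, E ≠ E' → ∀ v ∈ V, ∀ a ∈ E, ∀ b ∈ E', Commute b (a * v * a⁻¹ * v⁻¹)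
  gen : sSup 𝔅 ⊔ P = ⊤

theorem noncommProd_perm {α β : Type*} [Monoid β] (s : Finset α) (σ : α → α) (hσ : ∀ a ∈ s, σ a ∈ s)
    (hinj : ∀ a ∈ s, ∀ b ∈ s, σ a = σ b → a = b) (f : α → β) (c₁) (c₂) :
    s.noncommProd (fun a => f (σ a)) c₁ = s.noncommProd f c₂ := by
  classical
  have hi : Set.InjOn σ s := fun a ha b hb h => hinj a ha b hb h
  have him : s.image σ = s := Finset.eq_of_subset_of_card_le (Finset.image_subset_iff.2 hσ)
    (by rw [Finset.card_image_of_injOn hi])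
  have hm : s.1.map σ = s.1 := by
    conv_rhs => rw [← him]
    exact (Finset.image_val_of_injOn hi).symm
  have hm2 : s.1.map (fun a => f (σ a)) = s.1.map f := by
    conv_rhs => rw [← hm]
    rw [Multiset.map_map]
    rfl
  simp only [Finset.noncommProd]
  congr 1

theorem mem_cj {g x : G} {K : Subgroup G} : x ∈ cj g K ↔ g⁻¹ * x * g ∈ K := by
  constructor
  · rintro ⟨y, hy, rfl⟩
    simpa [mul_assoc] using hy
  · intro h
    exact ⟨_, h, by simp [mul_assoc]⟩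

theorem cj_cj (a b : G) (K : Subgroup G) : cj a (cj b K) = cj (a * b) K := by
  ext x
  simp only [mem_cj, _root_.mul_inv_rev, mul_assoc]

theorem cj_one (K : Subgroup G) : cj (1 : G) K = K := by
  ext x
  simp [mem_cj]

variable [Finite G] [hp : Fact p.Prime] {P : Sylow p G} {W V T : Subgroup G} {𝔅 : Set (Subgroup G)}

/-- The upper triangular matrices of determinant one are those normalizing `UT`. -/
theorem low_eq_zero_of_normalizes {F : Type*} [Field F] {g : SL(2, F)}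
    (h : g * ut (Multiplicative.ofAdd (1 : F)) * g⁻¹ ∈ UT F) : g 1 0 = 0 := by
  have h2 := (mem_UT.1 h).2.2
  rw [Matrix.SpecialLinearGroup.coe_mul, Matrix.SpecialLinearGroup.coe_mul, Matrix.SpecialLinearGroup.coe_inv,
    ut_coe, Matrix.adjugate_fin_two] at h2
  simp [Matrix.mul_apply, Fin.sum_univ_two] at h2
  by_contra h10
  apply h10
  have hsq : g 1 0 * g 1 0 = 0 := by linear_combination -h2
  exact mul_self_eq_zero.1 hsq

namespace Family

variable (hf : Family p (P : Subgroup G) V 𝔅) (ha : Ambient p (P : Subgroup G) W V)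
include hf ha

theorem normalizes {E E' : Subgroup G} (hE : E ∈ 𝔅) (hE' : E' ∈ 𝔅) : E' ≤ normalizer (E : Set G) := by
  intro b hb
  rcases eq_or_ne E E' with rfl | hne
  · exact le_normalizer hb
  refine mem_normalizer_fintype fun a haE => ?_
  obtain ⟨F, _, _, ρ, φ, -, hblk⟩ := hf.block E hE
  have h := hf.comm E hE E' hE' hne a haE b hb
  haveI := ha.centV_normal
  have h2 : b * a * b⁻¹ = a * (b * ((a * b)⁻¹ * (b * a)) * b⁻¹) := by group
  show b * a * b⁻¹ ∈ E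
  rw [h2]
  exact mul_mem haE (hblk.ker_le ((inferInstance : (centralizer (V : Set G)).Normal).conj_mem _ h b))

theorem sSup_normal : (sSup 𝔅).Normal := by
  rw [← normalizer_eq_top_iff, eq_top_iff, ← hf.gen]
  refine sup_le le_normalizer fun u hu => Core.mem_normalizer_iff_map_conj.2 ?_
  refine Subgroup.eq_of_le_of_card_ge (map_le_iff_le_comap.2 (sSup_le fun E hE => ?_))
    (card_map_of_injective (MulAut.conj u).injective).ge
  exact map_le_iff_le_comap.1 (le_sSup (hf.conj E hE u hu))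

theorem subnormal {E : Subgroup G} (hE : E ∈ 𝔅) : E.IsSubnormal := by
  haveI := hf.sSup_normal ha
  refine Subgroup.IsSubnormal.step E (sSup 𝔅) (le_sSup hE) (Subgroup.Normal.isSubnormal inferInstance) ?_
  exact (normal_subgroupOf_iff_le_normalizer (le_sSup hE)).2 (sSup_le fun E' hE' => hf.normalizes ha hE hE')

theorem not_dvd {E : Subgroup G} (hE : E ∈ 𝔅) : ¬ p ∣ (P : Subgroup G).relIndex E := by
  have h := not_dvd_relIndex_inf P (hf.subnormal ha hE)
  rwa [inf_relIndex_right] at h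

/-- Coordinates in which the Sylow subgroup is upper unitriangular. -/
theorem gauge {E : Subgroup G} (hE : E ∈ 𝔅) :
    ∃ (F : Type) (_ : Field F) (_ : Fintype F) (ρ : G → SL(2, F)) (φ : G → Fin 2 → F), CharP F p ∧
      Block V E ρ φ ∧ (∀ a ∈ (P : Subgroup G) ⊓ E, ρ a ∈ UT F) ∧
      ∀ M ∈ UT F, ∃ a ∈ (P : Subgroup G) ⊓ E, ρ a = M := by
  obtain ⟨F, iF, iT, ρ, φ, hchar, hb⟩ := hf.block E hE
  let ρE : ↥E →* SL(2, F) := MonoidHom.mk' (fun a => ρ a) fun a b => hb.ρ_mul a a.2 b b.2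
  have hsurj : Function.Surjective ρE := fun M => by
    obtain ⟨a, haE, rfl⟩ := hb.ρ_surj M
    exact ⟨⟨a, haE⟩, rfl⟩
  set S := ((P : Subgroup G).subgroupOf E).map ρE
  have hS : IsPGroup p ↥S := ((P.isPGroup').comap_of_injective E.subtype E.subtype_injective).map ρE
  have hSi : ¬ p ∣ S.index := fun h => hf.not_dvd ha hE (h.trans (index_map_dvd _ hsurj))
  obtain ⟨g, hg⟩ := exists_conj_UT p (hS.toSylow hSi)
  rw [IsPGroup.toSylow_coe] at hg
  have hmem : ∀ M, M ∈ UT F ↔ g * M * g⁻¹ ∈ S := fun M => by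
    rw [hg, Subgroup.mem_pointwise_smul_iff_inv_smul_mem, ← map_inv]
    show M ∈ UT F ↔ g⁻¹ * (g * M * g⁻¹) * g⁻¹⁻¹ ∈ UT F
    rw [show g⁻¹ * (g * M * g⁻¹) * g⁻¹⁻¹ = M by group]
  refine ⟨F, iF, iT, fun a => g⁻¹ * ρ a * g, fun v => (g⁻¹ : SL(2, F)).1 *ᵥ φ v, hchar,
    ⟨hb.ker_le, fun a haE b hbE => ?_, fun M => ?_, fun a haE => ?_, fun v hv w hw => ?_, fun x => ?_,
      fun v hv => ?_, fun a haE v hv => ?_⟩, fun a haS => ?_, fun M hM => ?_⟩
  · rw [hb.ρ_mul a haE b hbE]; group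
  · obtain ⟨a, haE, hρa⟩ := hb.ρ_surj (g * M * g⁻¹)
    exact ⟨a, haE, by rw [hρa]; group⟩
  · rw [← hb.ρ_ker a haE]
    constructor
    · intro h
      calc ρ a = g * (g⁻¹ * ρ a * g) * g⁻¹ := by group
        _ = 1 := by rw [h]; group
    · intro h
      rw [h, mul_one, inv_mul_cancel]
  · rw [hb.φ_mul v hv w hw, Matrix.mulVec_add]
  · obtain ⟨v, hv, hφv⟩ := hb.φ_surj ((g : SL(2, F)).1 *ᵥ x)
    refine ⟨v, hv, ?_⟩
    rw [hφv, Matrix.mulVec_mulVec, ← Matrix.SpecialLinearGroup.coe_mul, inv_mul_cancel,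
      Matrix.SpecialLinearGroup.coe_one, Matrix.one_mulVec]
  · rw [← hb.φ_ker v hv]
    constructor
    · intro h
      have h2 := congrArg ((g : SL(2, F)).1 *ᵥ ·) h
      rwa [Matrix.mulVec_mulVec, ← Matrix.SpecialLinearGroup.coe_mul, mul_inv_cancel,
        Matrix.SpecialLinearGroup.coe_one, Matrix.one_mulVec, Matrix.mulVec_zero] at h2
    · intro h
      rw [h, Matrix.mulVec_zero]
  · rw [hb.φ_act a haE v hv, Matrix.mulVec_mulVec, Matrix.mulVec_mulVec, ← Matrix.SpecialLinearGroup.coe_mul,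
      ← Matrix.SpecialLinearGroup.coe_mul]
    group
  · rw [hmem]
    exact ⟨⟨a, haS.2⟩, mem_subgroupOf.2 haS.1, show ρ a = _ by group⟩
  · obtain ⟨⟨a, haE⟩, haP, hρa⟩ := (hmem M).1 hM
    exact ⟨a, ⟨mem_subgroupOf.1 haP, haE⟩, by
      show g⁻¹ * ρ a * g = M
      rw [show ρ a = g * M * g⁻¹ from hρa]; group⟩

set_option maxHeartbeats 1600000 in
/-- The torus element. -/
theorem exists_torus (hTW : T ≤ W) (hTP : ∀ t ∈ T, ∀ u ∈ (P : Subgroup G), Commute u t)
    (hmove : ∃ g : G, ∃ t ∈ T, ¬ Commute g t)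
    (hN : normalizer ((P : Subgroup G) : Set G) ≤ normalizer (T : Set G)) :
    ∃ n ∈ normalizer (T : Set G), (∃ o : ℕ, o.Coprime p ∧ ∀ t ∈ T, n ^ o * t * (n ^ o)⁻¹ = t) ∧
      (∃ t ∈ T, n * t * n⁻¹ ≠ t) ∧
      ∀ a ∈ closure {y | ∃ t ∈ T, y = n * t * n⁻¹ * t⁻¹}, ∀ b ∈ closure {y | ∃ t ∈ T, y = n * t * n⁻¹ * t⁻¹},
        a ≠ 1 → b ≠ 1 → ∃ k : ℕ, n ^ k * a * (n ^ k)⁻¹ = b := by
  classical
  obtain ⟨E₁, hE₁⟩ := hf.nonempty
  obtain ⟨F, _, _, ρ, φ, hchar, hb, hS, hS'⟩ := hf.gauge ha hE₁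
  have h2 : (2 : F) ≠ 0 := Ring.two_ne_zero (by rw [ringChar.eq F p]; exact ha.odd)
  set K := centralizer (V : Set G) with hK
  haveI hKn : K.Normal := ha.centV_normal
  obtain ⟨z, hz, hρz⟩ := hb.ρ_surj (-1 : SL(2, F))
  have hTV : ∀ {t : G}, t ∈ T → t ∈ W := fun ht => hTW ht
  -- the elements of the Sylow subgroup normalizing the block
  set P₁ := (P : Subgroup G) ⊓ normalizer (E₁ : Set G) with hP₁
  have hnE : ∀ {u : G}, u ∈ P₁ → ∀ {a : G}, a ∈ E₁ → u * a * u⁻¹ ∈ E₁ := fun {u} hu {a} haE =>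
    (mem_normalizer_iff.1 hu.2 a).1 haE
  have hker : ∀ {u : G}, u ∈ P₁ → ∀ v ∈ V, φ v = 0 → φ (u * v * u⁻¹) = 0 := by
    intro u hu v hv h0
    refine (hb.φ_ker _ (ha.conjV hv u)).2 (mem_centralizer_iff.2 fun a haE => ?_)
    have h := mem_centralizer_iff.1 ((hb.φ_ker v hv).1 h0) (u⁻¹ * a * u⁻¹⁻¹) (hnE (inv_mem hu) haE)
    calc a * (u * v * u⁻¹) = u * ((u⁻¹ * a * u⁻¹⁻¹) * v) * u⁻¹ := by group
      _ = u * (v * (u⁻¹ * a * u⁻¹⁻¹)) * u⁻¹ := by rw [h]
      _ = u * v * u⁻¹ * a := by group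
  -- the part of the fixed line fixed by those elements
  let K₀ : AddSubgroup F :=
    { carrier := {x | ∀ u ∈ P₁, ∀ v ∈ V, φ v = ![x, 0] → φ (u * v * u⁻¹) = ![x, 0]}
      zero_mem' := fun u hu v hv h0 => by
        rw [show (![0, 0] : Fin 2 → F) = 0 by ext i; fin_cases i <;> rfl] at h0 ⊢
        exact hker hu v hv h0
      add_mem' := fun {x y} hx hy u hu v hv h => by
        obtain ⟨v₁, hv₁, h1⟩ := hb.φ_surj ![x, 0]
        have hw : v₁⁻¹ * v ∈ V := mul_mem (inv_mem hv₁) hv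
        have h3 : φ (v₁⁻¹ * v) = ![y, 0] := by
          rw [hb.φ_mul _ (inv_mem hv₁) _ hv, hb.φ_inv hv₁, h1, h]
          ext i; fin_cases i <;> simp
        rw [show u * v * u⁻¹ = (u * v₁ * u⁻¹) * (u * (v₁⁻¹ * v) * u⁻¹) by group,
          hb.φ_mul _ (ha.conjV hv₁ u) _ (ha.conjV hw u), hx u hu v₁ hv₁ h1, hy u hu _ hw h3]
        ext i; fin_cases i <;> simp
      neg_mem' := fun {x} hx u hu v hv h => by
        have h1 : φ v⁻¹ = ![x, 0] := by
          rw [hb.φ_inv hv, h]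
          ext i; fin_cases i <;> simp
        have h3 := hx u hu v⁻¹ (inv_mem hv) h1
        rw [← conj_inv, hb.φ_inv (ha.conjV hv u)] at h3
        rw [← neg_neg (φ (u * v * u⁻¹)), h3]
        ext i; fin_cases i <;> simp }
  have hline : ∀ {v : G}, v ∈ V → (∀ u ∈ (P : Subgroup G) ⊓ E₁, Commute u v) → φ v = ![φ v 0, 0] := by
    intro v hv hfix
    obtain ⟨s, hs, hρs⟩ := hS' (ut (Multiplicative.ofAdd (1 : F))) ⟨_, rfl⟩
    have h := hb.φ_act s hs.2 v hv
    rw [(hfix s hs).eq, mul_inv_cancel_right, hρs, ut_coe] at h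
    have h0 := congrFun h 0
    simp [Matrix.mulVec, dotProduct, Fin.sum_univ_two] at h0
    ext i; fin_cases i
    · rfl
    · exact h0
  have hK₀mem : ∀ {v : G}, v ∈ V → (∀ u ∈ P₁, φ (u * v * u⁻¹) = φ v) → φ v = ![φ v 0, 0] → φ v 0 ∈ K₀ := by
    intro v hv hinv hl u hu w hw h
    have hw' : v⁻¹ * w ∈ V := mul_mem (inv_mem hv) hw
    have h0 : φ (v⁻¹ * w) = 0 := by rw [hb.φ_mul _ (inv_mem hv) _ hw, hb.φ_inv hv, h, ← hl, neg_add_cancel]
    rw [show u * w * u⁻¹ = (u * v * u⁻¹) * (u * (v⁻¹ * w) * u⁻¹) by group,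
      hb.φ_mul _ (ha.conjV hv u) _ (ha.conjV hw' u), hinv u hu, hker hu _ hw' h0, add_zero]
    exact hl
  have hfixK₀ : ∀ {v : G}, v ∈ V → (∀ u ∈ (P : Subgroup G), Commute u v) → φ v 0 ∈ K₀ := fun {v} hv hfix =>
    hK₀mem hv (fun u hu => by rw [(hfix u (mem_inf.1 hu).1).eq, mul_inv_cancel_right]) (hline hv fun u hu => hfix u hu.1)
  -- the torus elements commuting with those elements
  set diag : Fˣ → SL(2, F) := fun l => ⟨!![(l : F), 0; 0, ((l⁻¹ : Fˣ) : F)], by simp [Matrix.det_fin_two]⟩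
  have hdiag : ∀ l m : Fˣ, diag (l * m) = diag l * diag m := fun l m => Subtype.ext (by
    rw [Matrix.SpecialLinearGroup.coe_mul]
    ext i j
    fin_cases i <;> fin_cases j <;> simp [diag, mul_comm])
  let Γ : Submonoid Fˣ :=
    { carrier := {l | ∀ u ∈ P₁, ∀ e ∈ E₁, ρ e = diag l → ρ (u * e * u⁻¹) * (diag l)⁻¹ ∈ UT F}
      one_mem' := fun u hu e he h1 => by
        have hd : diag 1 = 1 := Subtype.ext (by simp [diag, Matrix.one_fin_two])
        rw [hd] at h1 ⊢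
        rw [inv_one, mul_one, (hb.ρ_ker _ (hnE hu he)).2 (hKn.conj_mem _ ((hb.ρ_ker e he).1 h1) u)]
        exact one_mem _
      mul_mem' := fun {l m} hl hm u hu e he hlm => by
        obtain ⟨e₁, he₁, h1⟩ := hb.ρ_surj (diag l)
        have he₂ : e₁⁻¹ * e ∈ E₁ := mul_mem (inv_mem he₁) he
        have h3 : ρ (e₁⁻¹ * e) = diag m := by
          rw [hb.ρ_mul _ (inv_mem he₁) _ he, hb.ρ_inv he₁, h1, hlm, hdiag, inv_mul_cancel_left]
        obtain ⟨a, hae⟩ := hl u hu e₁ he₁ h1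
        obtain ⟨b, hbe⟩ := hm u hu _ he₂ h3
        have h4 : ρ (u * e * u⁻¹) * (diag (l * m))⁻¹ =
            ut a * (diag l * ut b * (diag l)⁻¹) := by
          rw [hae, hbe, show u * e * u⁻¹ = (u * e₁ * u⁻¹) * (u * (e₁⁻¹ * e) * u⁻¹) by group,
            hb.ρ_mul _ (hnE hu he₁) _ (hnE hu he₂), hdiag]
          group
        rw [h4]
        refine mul_mem ⟨a, rfl⟩ (mem_UT.2 ?_)
        rw [Matrix.SpecialLinearGroup.coe_mul, Matrix.SpecialLinearGroup.coe_mul,
          Matrix.SpecialLinearGroup.coe_inv, ut_coe]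
        simp [diag, Matrix.mul_apply, Fin.sum_univ_two, Matrix.adjugate_fin_two] }
  have hΓ : ∀ x ∈ K₀, ∀ y ∈ K₀, ∀ hx : x ≠ 0, ∀ hy : y ≠ 0,
      Units.mk0 y hy * (Units.mk0 x hx)⁻¹ ∈ Γ := by
    intro x hxK y hyK hx hy u hu e he hρe
    set e' := u * e * u⁻¹
    have he' : e' ∈ E₁ := hnE hu he
    obtain ⟨s, hs, hρs⟩ := hS' (ut (Multiplicative.ofAdd (1 : F))) ⟨_, rfl⟩
    -- the conjugate normalizes the Sylow subgroup
    have hlow : ρ e' 1 0 = 0 := by
      have hs₀ : u⁻¹ * s * u ∈ (P : Subgroup G) ⊓ E₁ := by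
        refine mem_inf.2 ⟨mul_mem (mul_mem (inv_mem (mem_inf.1 hu).1) (mem_inf.1 hs).1) (mem_inf.1 hu).1, ?_⟩
        simpa using hnE (inv_mem hu) hs.2
      obtain ⟨c, hc⟩ := hS _ hs₀
      have h5 : e * (u⁻¹ * s * u) * e⁻¹ ∈ E₁ := mul_mem (mul_mem he hs₀.2) (inv_mem he)
      have h6 : ρ (e * (u⁻¹ * s * u) * e⁻¹) ∈ UT F := by
        rw [hb.ρ_mul _ (mul_mem he hs₀.2) _ (inv_mem he), hb.ρ_mul _ he _ hs₀.2, hb.ρ_inv he, hρe, ← hc]
        refine mem_UT.2 ?_
        rw [Matrix.SpecialLinearGroup.coe_mul, Matrix.SpecialLinearGroup.coe_mul,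
          Matrix.SpecialLinearGroup.coe_inv, ut_coe]
        simp [diag, Matrix.mul_apply, Fin.sum_univ_two, Matrix.adjugate_fin_two]
        field_simp
        simp
      obtain ⟨s₁, hs₁, h7⟩ := hS' _ h6
      have hk := hb.mem_cent_of_ρ_eq hs₁.2 h5 h7
      refine low_eq_zero_of_normalizes ?_
      rw [← hρs, ← hb.ρ_inv he', ← hb.ρ_mul _ he' _ hs.2, ← hb.ρ_mul _ (mul_mem he' hs.2) _ (inv_mem he')]
      have h8 : (u * s₁ * u⁻¹)⁻¹ * (e' * s * e'⁻¹) ∈ centralizer (V : Set G) := by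
        rw [show (u * s₁ * u⁻¹)⁻¹ * (e' * s * e'⁻¹) = u * (s₁⁻¹ * (e * (u⁻¹ * s * u) * e⁻¹)) * u⁻¹ by
          simp only [e']; group]
        exact hKn.conj_mem _ hk u
      have h9 : u * s₁ * u⁻¹ ∈ (P : Subgroup G) ⊓ E₁ :=
        mem_inf.2 ⟨mul_mem (mul_mem (mem_inf.1 hu).1 (mem_inf.1 hs₁).1) (inv_mem (mem_inf.1 hu).1), hnE hu hs₁.2⟩
      rw [hb.ρ_eq_of_mem_cent h9.2 h8]
      exact hS _ h9
    -- its first entry
    obtain ⟨v, hv, hφv⟩ := hb.φ_surj ![x, 0]
    have hu' : u⁻¹ ∈ P₁ := inv_mem hu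
    have h10 : φ (e' * v * e'⁻¹) = ![y, 0] := by
      rw [show e' * v * e'⁻¹ = u * (e * (u⁻¹ * v * u⁻¹⁻¹) * e⁻¹) * u⁻¹ by simp only [e']; group]
      refine hyK u hu _ (ha.conjV (ha.conjV hv _) e) ?_
      rw [hb.φ_act e he _ (ha.conjV hv _), hxK _ hu' v hv hφv, hρe]
      ext i; fin_cases i <;> simp [diag, Matrix.mulVec, dotProduct, Fin.sum_univ_two]
      field_simp
    rw [hb.φ_act e' he' v hv, hφv] at h10
    have h00 : ρ e' 0 0 = y / x := by
      have h := congrFun h10 0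
      simp [Matrix.mulVec, dotProduct, Fin.sum_univ_two] at h
      rw [eq_div_iff hx]
      exact h
    have hdet := (ρ e').2
    rw [Matrix.det_fin_two, hlow, mul_zero, sub_zero, h00] at hdet
    have h11 : ρ e' 1 1 = x / y := by
      field_simp at hdet ⊢
      linear_combination hdet
    refine mem_UT.2 ?_
    rw [Matrix.SpecialLinearGroup.coe_mul, Matrix.SpecialLinearGroup.coe_inv]
    simp [diag, Matrix.mul_apply, Fin.sum_univ_two, Matrix.adjugate_fin_two, hlow, h00, h11, hx, hy]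
    field_simp
    simp
  -- a generator of the torus part
  let Γ' : Subgroup Fˣ :=
    { Γ with
      inv_mem' := fun {l} hl => by
        rw [inv_eq_of_mul_eq_one_right (b := l ^ (orderOf l - 1))
          (by rw [← pow_succ', Nat.sub_add_cancel (orderOf_pos l), pow_orderOf_eq_one])]
        exact Γ.pow_mem hl _ }
  obtain ⟨⟨l₀, hl₀⟩, hgen⟩ := IsCyclic.exists_generator (α := ↥Γ')
  obtain ⟨h, hh, hρh⟩ := hb.ρ_surj (diag l₀)
  -- the product over the family
  let s : Finset (Subgroup G) := (Set.toFinite 𝔅).toFinset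
  have hsm : ∀ {E : Subgroup G}, E ∈ s ↔ E ∈ 𝔅 := (Set.toFinite 𝔅).mem_toFinset
  have htrans : ∀ E ∈ 𝔅, ∃ u ∈ (P : Subgroup G), cj u E₁ = E ∧ (E = E₁ → u = 1) := fun E hE => by
    rcases eq_or_ne E E₁ with rfl | hne
    · exact ⟨1, one_mem _, cj_one _, fun _ => rfl⟩
    · obtain ⟨u, hu, he⟩ := hf.trans E₁ hE₁ E hE
      exact ⟨u, hu, he, fun h => absurd h hne⟩
  choose! tr htr htrE htr₁ using htrans
  let hE : Subgroup G → G := fun E => tr E * h * (tr E)⁻¹
  have hEmem : ∀ E ∈ 𝔅, hE E ∈ E := fun E hEB => (htrE E hEB).le (mem_cj.2 (by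
    show (tr E)⁻¹ * (tr E * h * (tr E)⁻¹) * tr E ∈ E₁
    simpa [mul_assoc] using hh))
  let π := QuotientGroup.mk' K
  have hπ : ∀ {a b : G}, π a = π b ↔ a⁻¹ * b ∈ K := fun {a b} => QuotientGroup.eq
  have hπconj : ∀ {a b x : G}, π a = π b → x ∈ W → a * x * a⁻¹ = b * x * b⁻¹ := fun h' hx =>
    (ha.conj_eq (hπ.1 h') hx).symm
  have hcommπ : ∀ E ∈ 𝔅, ∀ E' ∈ 𝔅, E ≠ E' → ∀ a ∈ E, ∀ b ∈ E', Commute (π a) (π b) :=
    fun E hEB E' hE' hne a haE b hbE => by
      show π a * π b = π b * π a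
      rw [← map_mul, ← map_mul, hπ]
      exact hf.comm E hEB E' hE' hne a haE b hbE
  have hpw : (s : Set (Subgroup G)).Pairwise fun E E' => Commute (π (hE E)) (π (hE E')) :=
    fun E hE' E' hE'' hne => hcommπ E (hsm.1 hE') E' (hsm.1 hE'') hne _ (hEmem E (hsm.1 hE'))
      _ (hEmem E' (hsm.1 hE''))
  set nb := s.noncommProd (fun E => π (hE E)) hpw with hnb
  obtain ⟨n, hn⟩ := QuotientGroup.mk'_surjective K nb
  change π n = nb at hn
  -- properties true of every factor pass to the product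
  have hind : ∀ Q : G → Prop, (∀ a b, π a = π b → Q a → Q b) → (∀ a b, Q a → Q b → Q (a * b)) → Q 1 →
      (∀ E ∈ 𝔅, Q (hE E)) → Q n := by
    intro Q hc hm h1 hall
    have := Finset.noncommProd_induction s (fun E => π (hE E)) hpw (fun q => ∀ a, π a = q → Q a)
      (fun q r hq hr a hab => by
        obtain ⟨q', rfl⟩ := QuotientGroup.mk'_surjective K q
        obtain ⟨r', rfl⟩ := QuotientGroup.mk'_surjective K r
        exact hc (q' * r') a (by rw [map_mul]; exact hab.symm) (hm _ _ (hq q' rfl) (hr r' rfl)))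
      (fun a hae => hc 1 a (by rw [map_one]; exact hae.symm) h1)
      (fun E hEs a hae => hc _ a hae.symm (hall E (hsm.1 hEs)))
    exact this n hn
  have hfixn : ∀ y ∈ W, (∀ E ∈ 𝔅, ∀ a ∈ E, Commute a y) → n * y * n⁻¹ = y := by
    intro y hy hall
    refine hind (fun a => a * y * a⁻¹ = y) (fun a b hab hq => (hπconj hab hy).symm.trans hq)
      (fun a b h1 h3 => ?_) (by simp) fun E hEB => by rw [(hall E hEB _ (hEmem E hEB)).eq, mul_inv_cancel_right]
    calc a * b * y * (a * b)⁻¹ = a * (b * y * b⁻¹) * a⁻¹ := by group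
      _ = y := by rw [h3, h1]
  -- the action on the natural module of the first block
  have hrest : ∀ v ∈ V, φ (n * v * n⁻¹) = ((diag l₀ : SL(2, F)) : Matrix (Fin 2) (Fin 2) F) *ᵥ φ v := by
    intro v hv
    have hsplit := Finset.mul_noncommProd_erase s (hsm.2 hE₁) (fun E => π (hE E)) hpw
    obtain ⟨r, hr⟩ := QuotientGroup.mk'_surjective K ((s.erase E₁).noncommProd (fun E => π (hE E))
      (fun x hx y hy hne => hpw (Finset.erase_subset _ _ hx) (Finset.erase_subset _ _ hy) hne))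
    have hrfix : ∀ v ∈ V, φ (r * v * r⁻¹) = φ v := by
      have := Finset.noncommProd_induction (s.erase E₁) (fun E => π (hE E))
        (fun x hx y hy hne => hpw (Finset.erase_subset _ _ hx) (Finset.erase_subset _ _ hy) hne)
        (fun q => ∀ a, π a = q → ∀ v ∈ V, φ (a * v * a⁻¹) = φ v)
        (fun q q' hq hq' a hab v hv => by
          obtain ⟨c, rfl⟩ := QuotientGroup.mk'_surjective K q
          obtain ⟨c', rfl⟩ := QuotientGroup.mk'_surjective K q'
          rw [hπconj (b := c * c') (by rw [map_mul]; exact hab) (ha.V_le hv),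
            show c * c' * v * (c * c')⁻¹ = c * (c' * v * c'⁻¹) * c⁻¹ by group,
            hq c rfl _ (ha.conjV hv c'), hq' c' rfl v hv])
        (fun a ha1 v hv => by rw [hπconj (b := 1) (by rw [map_one]; exact ha1) (ha.V_le hv)]; simp)
        (fun E hEs a hae v hv => by
          obtain ⟨hne, hEs'⟩ := Finset.mem_erase.1 hEs
          rw [hπconj hae (ha.V_le hv)]
          have hd : hE E * v * (hE E)⁻¹ * v⁻¹ ∈ V := mul_mem (ha.conjV hv _) (inv_mem hv)
          have h0 := (hb.φ_ker _ hd).2 (mem_centralizer_iff.2 fun b hbE =>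
            (hf.cross E (hsm.1 hEs') E₁ hE₁ hne v hv _ (hEmem E (hsm.1 hEs')) b hbE).eq)
          rw [hb.φ_mul _ (ha.conjV hv _) _ (inv_mem hv), hb.φ_inv hv, add_neg_eq_zero] at h0
          exact h0)
      exact fun v hv => this r hr v hv
    have hE₁E : ∀ w ∈ V, φ (hE E₁ * w * (hE E₁)⁻¹) = ((diag l₀ : SL(2, F)) : Matrix (Fin 2) (Fin 2) F) *ᵥ φ w := by
      intro w hw
      rw [show hE E₁ = h by simp [hE, htr₁ E₁ hE₁ rfl], hb.φ_act h hh w hw, hρh]
    rw [hπconj (b := hE E₁ * r) (by rw [hn, map_mul, hr]; exact hsplit.symm) (ha.V_le hv),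
      show hE E₁ * r * v * (hE E₁ * r)⁻¹ = hE E₁ * (r * v * r⁻¹) * (hE E₁)⁻¹ by group,
      hE₁E _ (ha.conjV hv r), hrfix v hv]
  -- the product normalizes the Sylow subgroup modulo the centralizer
  have hnorm : ∀ u ∈ (P : Subgroup G), n⁻¹ * u * n ∈ (P : Subgroup G) ⊔ K := by
    intro u hu
    have hslot : ∀ E' ∈ 𝔅, ∃ a ∈ (P : Subgroup G) ⊓ E',
        π (u * hE (cj u⁻¹ E') * u⁻¹) = π (hE E') * π a := by
      intro E' hE'
      set E := cj u⁻¹ E' with hEdef
      have hEB : E ∈ 𝔅 := hf.conj E' hE' _ (inv_mem hu)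
      set w := (tr E')⁻¹ * u * tr E with hwdef
      have hw : w ∈ P₁ := by
        refine mem_inf.2 ⟨mul_mem (mul_mem (inv_mem (htr E' hE')) hu) (htr E hEB),
          Core.mem_normalizer_iff_map_conj.2 ?_⟩
        rw [hwdef, ← cj_cj, htrE E hEB, hEdef, cj_cj, mul_inv_cancel_right]
        calc cj (tr E')⁻¹ E' = cj (tr E')⁻¹ (cj (tr E') E₁) := congrArg _ (htrE E' hE').symm
          _ = E₁ := by rw [cj_cj, inv_mul_cancel, cj_one]
      obtain ⟨s₀, hs₀, hρs₀⟩ := hS' _ (hl₀ w hw h hh hρh)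
      obtain ⟨c, hc⟩ := hS _ hs₀
      have h1 : ρ (h⁻¹ * s₀ * h) ∈ UT F := by
        rw [hb.ρ_mul _ (mul_mem (inv_mem hh) hs₀.2) _ hh, hb.ρ_mul _ (inv_mem hh) _ hs₀.2, hb.ρ_inv hh, hρh, ← hc]
        refine mem_UT.2 ?_
        rw [Matrix.SpecialLinearGroup.coe_mul, Matrix.SpecialLinearGroup.coe_mul,
          Matrix.SpecialLinearGroup.coe_inv, ut_coe]
        simp [diag, Matrix.mul_apply, Fin.sum_univ_two, Matrix.adjugate_fin_two]
      obtain ⟨s₁, hs₁, hρs₁⟩ := hS' _ h1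
      have hk : (h * s₁)⁻¹ * (w * h * w⁻¹) ∈ K := by
        refine hb.mem_cent_of_ρ_eq (mul_mem hh hs₁.2) (hnE hw hh) ?_
        rw [hb.ρ_mul _ hh _ hs₁.2, hρs₁, hb.ρ_mul _ (mul_mem (inv_mem hh) hs₀.2) _ hh,
          hb.ρ_mul _ (inv_mem hh) _ hs₀.2, hb.ρ_inv hh, hρs₀, hρh]
        group
      refine ⟨tr E' * s₁ * (tr E')⁻¹, mem_inf.2 ⟨mul_mem (mul_mem (htr E' hE') (mem_inf.1 hs₁).1)
        (inv_mem (htr E' hE')), (htrE E' hE').le ⟨s₁, hs₁.2, rfl⟩⟩, ?_⟩
      rw [← map_mul, eq_comm, hπ]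
      have e : (hE E' * (tr E' * s₁ * (tr E')⁻¹))⁻¹ * (u * hE E * u⁻¹) =
          tr E' * ((h * s₁)⁻¹ * (w * h * w⁻¹)) * (tr E')⁻¹ := by
        simp only [hE, hwdef]; group
      rw [e]
      exact hKn.conj_mem _ hk _
    choose! a ha' haπ using hslot
    have hP1 : ∀ E ∈ 𝔅, cj u E ∈ 𝔅 := fun E hEB => hf.conj E hEB u hu
    have hback : ∀ E : Subgroup G, cj u⁻¹ (cj u E) = E := fun E => by
      rw [cj_cj, inv_mul_cancel, cj_one]
    have hga : (s : Set (Subgroup G)).Pairwise fun E E' => Commute (π (a E)) (π (a E')) :=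
      fun E hE' E' hE'' hne => hcommπ E (hsm.1 hE') E' (hsm.1 hE'') hne _ (ha' E (hsm.1 hE')).2
        _ (ha' E' (hsm.1 hE'')).2
    have hag : (s : Set (Subgroup G)).Pairwise fun E E' => Commute (π (a E)) (π (hE E')) :=
      fun E hE' E' hE'' hne => hcommπ E (hsm.1 hE') E' (hsm.1 hE'') hne _ (ha' E (hsm.1 hE')).2
        _ (hEmem E' (hsm.1 hE''))
    have hconjpw : (s : Set (Subgroup G)).Pairwise fun E E' =>
        Commute ((fun E => π (u * hE E * u⁻¹)) E) ((fun E => π (u * hE E * u⁻¹)) E') := fun E hE' E' hE'' hne => by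
      have h0 : Commute (π (hE E)) (π (hE E')) := hpw hE' hE'' hne
      show Commute (π (u * hE E * u⁻¹)) (π (u * hE E' * u⁻¹))
      simp only [map_mul, map_inv]
      exact h0.map (MulAut.conj (π u))
    have e1 : π (u * n * u⁻¹) = s.noncommProd (fun E => π (u * hE E * u⁻¹)) hconjpw := by
      have h0 := Finset.map_noncommProd s (fun E => π (hE E)) hpw (MulAut.conj (π u)).toMonoidHom
      rw [← hnb, ← hn] at h0
      simp only [MulEquiv.coe_toMonoidHom, MulAut.conj_apply] at h0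
      rw [map_mul, map_mul, map_inv, h0]
      refine Finset.noncommProd_congr rfl (fun E _ => ?_) _
      simp only [map_mul, map_inv]
    have hgg : (s : Set (Subgroup G)).Pairwise fun E E' =>
        Commute (π (hE E) * π (a E)) (π (hE E') * π (a E')) := fun E hE' E' hE'' hne =>
      ((hpw hE' hE'' hne).mul_right (hag hE'' hE' hne.symm).symm).mul_left
        ((hag hE' hE'' hne).mul_right (hga hE' hE'' hne))
    have hσpw : (s : Set (Subgroup G)).Pairwise fun E E' =>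
        Commute ((fun E => π (hE (cj u E)) * π (a (cj u E))) E)
          ((fun E => π (hE (cj u E)) * π (a (cj u E))) E') := fun E hE' E' hE'' hne =>
      hgg (hsm.2 (hP1 E (hsm.1 hE'))) (hsm.2 (hP1 E' (hsm.1 hE'')))
        fun e => hne (by rw [← hback E, e, hback])
    have e2 : s.noncommProd (fun E => π (u * hE E * u⁻¹)) hconjpw =
        s.noncommProd (fun E => π (hE (cj u E)) * π (a (cj u E))) hσpw := by
      refine Finset.noncommProd_congr rfl (fun E hEs => ?_) _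
      have h0 := haπ (cj u E) (hP1 E (hsm.1 hEs))
      rwa [hback] at h0
    have e3 := noncommProd_perm s (fun E => cj u E) (fun E hEs => hsm.2 (hP1 E (hsm.1 hEs)))
      (fun E _ E' _ e => by rw [← hback E, e, hback]) (fun E => π (hE E) * π (a E)) hσpw hgg
    have e4 := Finset.noncommProd_mul_distrib (s := s) (fun E => π (hE E)) (fun E => π (a E)) hpw hga hag
    have hsP : s.noncommProd (fun E => π (a E)) hga ∈ (P : Subgroup G).map π :=
      Finset.noncommProd_induction s _ hga _ (fun _ _ => mul_mem) (one_mem _)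
        fun E hEs => ⟨a E, (ha' E (hsm.1 hEs)).1, rfl⟩
    obtain ⟨b, hbP, hbπ⟩ := hsP
    have e5 : π (u * n * u⁻¹) = π n * π b := by
      rw [e1, e2, e3, hbπ, hn]
      exact e4
    have h3 : π (n⁻¹ * u * n) = π (b * u) := by
      calc π (n⁻¹ * u * n) = (π n)⁻¹ * π (u * n * u⁻¹) * π u := by
            simp only [map_mul, map_inv]; group
        _ = π (b * u) := by rw [e5, map_mul]; group
    have h4 := hπ.1 h3.symm
    have h5 : (b * u) * ((b * u)⁻¹ * (n⁻¹ * u * n)) ∈ (P : Subgroup G) ⊔ K :=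
      mul_mem (mem_sup_left (mul_mem hbP hu)) (mem_sup_right h4)
    rwa [mul_inv_cancel_left] at h5
  have hKT : ∀ k ∈ K, ∀ t ∈ T, Commute k t := fun k hk t ht => by
    rw [hK, ha.cent] at hk
    exact (mem_centralizer_iff.1 hk t (hTW ht)).symm
  have hYT : (P : Subgroup G) ⊔ K ≤ normalizer (T : Set G) := by
    refine sup_le ?_ ?_
    · exact fun u hu => mem_normalizer_fintype fun t ht => by
        rw [SetLike.mem_coe] at ht ⊢
        rw [(hTP t ht u hu).eq, mul_inv_cancel_right]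
        exact ht
    · exact fun u hu => mem_normalizer_fintype fun t ht => by
        rw [SetLike.mem_coe] at ht ⊢
        rw [(hKT u hu t ht).eq, mul_inv_cancel_right]
        exact ht
  have hnT : n ∈ normalizer (T : Set G) := by
    have hPY : (P : Subgroup G) ≤ (P : Subgroup G) ⊔ K := le_sup_left
    have hP'Y : ((MulAut.conj n⁻¹ • P : Sylow p G) : Subgroup G) ≤ (P : Subgroup G) ⊔ K := by
      rw [Sylow.pointwise_smul_def]
      rintro _ ⟨u, hu, rfl⟩
      simpa using hnorm u hu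
    obtain ⟨⟨k, hk⟩, hkP⟩ := MulAction.exists_smul_eq ↥((P : Subgroup G) ⊔ K)
      ((MulAut.conj n⁻¹ • P).subtype hP'Y) (P.subtype hPY)
    have hm : k * n⁻¹ ∈ normalizer ((P : Subgroup G) : Set G) := by
      refine mem_normalizer_fintype fun u hu => ?_
      rw [SetLike.mem_coe] at hu ⊢
      have hx : k * (n⁻¹ * u * n) * k⁻¹ ∈ (P : Subgroup G) ⊔ K :=
        mul_mem (mul_mem hk (hnorm u hu)) (inv_mem hk)
      have h6 : (⟨k * (n⁻¹ * u * n) * k⁻¹, hx⟩ : ↥((P : Subgroup G) ⊔ K)) ∈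
          ((⟨k, hk⟩ : ↥((P : Subgroup G) ⊔ K)) • (MulAut.conj n⁻¹ • P).subtype hP'Y : Sylow p _) := by
        refine ⟨⟨n⁻¹ * u * n, hnorm u hu⟩, ?_, Subtype.ext rfl⟩
        rw [SetLike.mem_coe, Sylow.coe_subtype, mem_subgroupOf, Sylow.pointwise_smul_def]
        exact ⟨u, hu, by simp⟩
      rw [hkP] at h6
      have h7 : k * (n⁻¹ * u * n) * k⁻¹ ∈ (P : Subgroup G) := h6
      simpa [mul_assoc] using h7
    have h8 := hN hm
    have h9 : n = (k * n⁻¹)⁻¹ * k := by group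
    rw [h9]
    exact mul_mem (inv_mem h8) (hYT hk)
  -- its order
  set o := orderOf l₀ with ho
  have hoc : o.Coprime p := by
    rw [Nat.coprime_comm, hp.out.coprime_iff_not_dvd]
    intro hd
    have h3 := hd.trans (orderOf_dvd_natCard l₀)
    rw [Nat.card_units, Nat.card_eq_fintype_card] at h3
    have h4 : p ∣ Fintype.card F := Cfsg.Lib.Linear.Two.dvd_card p
    have h5 := Nat.dvd_sub h4 h3
    rw [show Fintype.card F - (Fintype.card F - 1) = 1 by have := Fintype.card_pos (α := F); omega] at h5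
    exact hp.out.not_dvd_one h5
  have hnp : π (n ^ o) = 1 := by
    have hone : ∀ E ∈ 𝔅, (π (hE E)) ^ o = 1 := by
      intro E hEB
      rw [← map_pow, ← map_one π, hπ, mul_one]
      refine inv_mem ?_
      show (tr E * h * (tr E)⁻¹) ^ o ∈ K
      rw [conj_pow]
      refine hKn.conj_mem _ ((hb.ρ_ker _ (pow_mem hh o)).1 ?_) _
      rw [hb.ρ_pow hh, hρh]
      have hd : ∀ k, diag (l₀ ^ k) = diag l₀ ^ k := fun k => by
        induction k with
        | zero => rw [pow_zero, pow_zero]; exact Subtype.ext (by simp [diag, Matrix.one_fin_two])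
        | succ k ih => rw [pow_succ, pow_succ, hdiag, ih]
      rw [← hd, ho, pow_orderOf_eq_one]
      exact Subtype.ext (by simp [diag, Matrix.one_fin_two])
    have haux : ∀ (t : Finset (Subgroup G)) (_ : t ⊆ s) (c), (t.noncommProd (fun E => π (hE E)) c) ^ o = 1 := by
      intro t
      induction t using Finset.induction_on with
      | empty => intro _ c; simp
      | insert E t hEt ih =>
        intro hsub c
        rw [Finset.noncommProd_insert_of_notMem _ _ _ _ hEt]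
        rw [Commute.mul_pow (Finset.noncommProd_commute _ _ _ _ fun x hx =>
          c (Finset.mem_insert_self E t) (Finset.mem_insert_of_mem hx) fun e => hEt (e ▸ hx)),
          hone E (hsm.1 (hsub (Finset.mem_insert_self E t))), one_mul]
        exact ih (fun x hx => hsub (Finset.mem_insert_of_mem hx)) _
    rw [map_pow, hn]
    exact haux s (fun _ h => h) hpw
  have hfixo : ∀ y ∈ W, n ^ o * y * (n ^ o)⁻¹ = y := fun y hy => by
    have := hπconj (a := n ^ o) (b := 1) (x := y) (by rw [hnp, map_one]) hy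
    simpa using this
  -- the part of an element of `T` inverted by the involution
  have hnz : ∀ x ∈ W, n * (z * x * z⁻¹) * n⁻¹ = z * (n * x * n⁻¹) * z⁻¹ := by
    intro x hx
    have hc : Commute (π n) (π z) := by
      refine hind (fun a => Commute (π a) (π z)) (fun a b hab hq => hab ▸ hq)
        (fun a b h1 h3 => by rw [map_mul]; exact h1.mul_left h3) (by rw [map_one]; exact Commute.one_left _)
        fun E hEB => ?_
      rcases eq_or_ne E E₁ with rfl | hne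
      · show π (hE E) * π z = π z * π (hE E)
        rw [← map_mul, ← map_mul, hπ]
        exact hb.z_comm hz hρz (hEmem E hEB)
      · exact hcommπ E hEB E₁ hE₁ hne _ (hEmem E hEB) _ hz
    calc n * (z * x * z⁻¹) * n⁻¹ = n * z * x * (n * z)⁻¹ := by group
      _ = z * n * x * (z * n)⁻¹ := hπconj (by rw [map_mul, map_mul]; exact hc.eq) hx
      _ = z * (n * x * n⁻¹) * z⁻¹ := by group
  have hzu : ∀ {u : G}, u ∈ P₁ → ρ (u * z * u⁻¹) = -1 := by
    intro u hu
    set e' := u * z * u⁻¹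
    have he' : e' ∈ E₁ := hnE hu hz
    have hcen : ∀ M, ρ e' * M = M * ρ e' := fun M => by
      obtain ⟨c, hc, rfl⟩ := hb.ρ_surj M
      have hc' : u⁻¹ * c * u ∈ E₁ := by simpa using hnE (inv_mem hu) hc
      have hk := hKn.conj_mem _ (hb.z_comm hz hρz hc') u
      rw [← hb.ρ_mul _ he' _ hc, ← hb.ρ_mul _ hc _ he']
      refine hb.ρ_eq_of_mem_cent (mul_mem hc he') ?_
      rwa [show (c * e')⁻¹ * (e' * c) = u * ((u⁻¹ * c * u * z)⁻¹ * (z * (u⁻¹ * c * u))) * u⁻¹ by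
        simp only [e']; group]
    have h3 := congrArg Subtype.val (hcen (ut (Multiplicative.ofAdd (1 : F))))
    rw [Matrix.SpecialLinearGroup.coe_mul, Matrix.SpecialLinearGroup.coe_mul, ut_coe] at h3
    set L : SL(2, F) := ⟨!![1, 0; 1, 1], by simp [Matrix.det_fin_two]⟩ with hLdef
    have h4 := congrArg Subtype.val (hcen L)
    rw [Matrix.SpecialLinearGroup.coe_mul, Matrix.SpecialLinearGroup.coe_mul,
      show L.1 = !![1, 0; 1, 1] from rfl] at h4
    have ha00 := congrFun (congrFun h3 0) 1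
    have ha10 := congrFun (congrFun h3 0) 0
    have ha01 := congrFun (congrFun h4 0) 0
    simp [Matrix.mul_apply, Fin.sum_univ_two] at ha00 ha10 ha01
    have hdet := (ρ e').2
    rw [Matrix.det_fin_two, ha10, ha01, mul_zero, sub_zero] at hdet
    have hsq : ρ e' 0 0 * ρ e' 0 0 = 1 := by
      have : ρ e' 1 1 = ρ e' 0 0 := by linear_combination -ha00
      rw [this] at hdet
      exact hdet
    have h11 : ρ e' 1 1 = ρ e' 0 0 := by linear_combination -ha00
    rcases mul_self_eq_one_iff.1 hsq with h0 | h0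
    · exfalso
      have hone : ρ e' = 1 := Subtype.ext (by
        ext i j
        fin_cases i <;> fin_cases j <;> simp [ha10, ha01, h11, h0])
      have h5 := hKn.conj_mem _ ((hb.ρ_ker e' he').1 hone) u⁻¹
      rw [show u⁻¹ * e' * u⁻¹⁻¹ = z by simp only [e']; group] at h5
      have h6 := congrArg (fun M : SL(2, F) => M.1 0 0) (hρz.symm.trans ((hb.ρ_ker z hz).2 h5))
      simp at h6
      exact h2 (by linear_combination -h6)
    · refine Subtype.ext ?_
      ext i j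
      fin_cases i <;> fin_cases j <;> simp [ha10, ha01, h11, h0]
  have hiT : ∀ t ∈ T, ii z t ∈ V ∧ φ (ii z t) = ![φ (ii z t) 0, 0] ∧ φ (ii z t) 0 ∈ K₀ := by
    intro t ht
    have htW := hTW ht
    have hfix : ∀ u ∈ (P : Subgroup G) ⊓ E₁, Commute u (ii z t) := by
      intro u hu
      show u * ii z t = ii z t * u
      rw [← mul_inv_eq_iff_eq_mul]
      have h3 : u * (z * t * z⁻¹) * u⁻¹ = z * (u * t * u⁻¹) * z⁻¹ := by
        calc u * (z * t * z⁻¹) * u⁻¹ = u * z * t * (u * z)⁻¹ := by group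
          _ = z * u * t * (z * u)⁻¹ := (ha.conj_eq (hb.z_comm hz hρz (mem_inf.1 hu).2) htW).symm
          _ = z * (u * t * u⁻¹) * z⁻¹ := by group
      rw [show u * t * u⁻¹ = t by rw [(hTP t ht u (mem_inf.1 hu).1).eq, mul_inv_cancel_right]] at h3
      calc u * ii z t * u⁻¹ = (u * t * u⁻¹) * (u * (z * t * z⁻¹) * u⁻¹)⁻¹ := by simp only [ii]; group
        _ = ii z t := by rw [h3, (hTP t ht u (mem_inf.1 hu).1).eq, mul_inv_cancel_right]; rfl
    have hV' : ii z t ∈ V := (ha.memV _).2 ⟨Block.ii_mem ha hz htW,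
      hb.omega_of_inverted ha hz hρz hS' (Block.ii_mem ha hz htW) (hb.ii_inverted ha hz hρz htW) hfix⟩
    have hl := hline hV' hfix
    refine ⟨hV', hl, hK₀mem hV' (fun u hu => ?_) hl⟩
    congr 1
    have hk : z⁻¹ * (u * z * u⁻¹) ∈ K :=
      hb.mem_cent_of_ρ_eq hz (hnE hu hz) (by rw [hρz, hzu hu])
    have hut : u * t * u⁻¹ = t := by rw [(hTP t ht u (mem_inf.1 hu).1).eq, mul_inv_cancel_right]
    calc u * ii z t * u⁻¹ = (u * t * u⁻¹) * ((u * z * u⁻¹) * (u * t * u⁻¹) * (u * z * u⁻¹)⁻¹)⁻¹ := by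
          simp only [ii]; group
      _ = ii z t := by rw [hut, ha.conj_eq hk htW]; rfl
  have hall : ∀ t ∈ T, z * t * z⁻¹ = t → ∀ E ∈ 𝔅, ∀ a ∈ E, Commute a t := by
    intro t ht hzt E hEB a haE
    have h1 : ∀ b ∈ E₁, Commute b t := hb.commute_of_fixed ha hz hρz (hf.not_dvd ha hE₁) (hTW ht) hzt
      fun u hu => hTP t ht u (mem_inf.1 hu).1
    have h3 : (tr E)⁻¹ * a * tr E ∈ E₁ := mem_cj.1 ((htrE E hEB).ge haE)
    have h4 := ((hTP t ht _ (htr E hEB)).mul_left (h1 _ h3)).mul_left (hTP t ht _ (inv_mem (htr E hEB)))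
    rwa [show tr E * ((tr E)⁻¹ * a * tr E) * (tr E)⁻¹ = a by group] at h4
  have hl₀one : ∀ x ∈ K₀, x ≠ 0 → l₀ ≠ 1 := by
    intro x hxK hx hl1
    have hxx : x + x ≠ 0 := by rw [← two_mul]; exact mul_ne_zero h2 hx
    have hmem : Units.mk0 (x + x) hxx * (Units.mk0 x hx)⁻¹ ∈ Γ' := hΓ x hxK _ (K₀.add_mem hxK hxK) hx hxx
    obtain ⟨k, hk⟩ := mem_zpowers_iff.1 (hgen ⟨_, hmem⟩)
    have h3 := congrArg (fun y : ↥Γ' => ((y : Fˣ) : F)) hk
    simp [hl1] at h3
    field_simp at h3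
    exact hx (by linear_combination (-x) * h3)
  -- it moves `T`
  have hmoved : ∃ t ∈ T, n * t * n⁻¹ ≠ t := by
    by_contra hno
    push Not at hno
    obtain ⟨g, t, ht, hgt⟩ := hmove
    have htW := hTW ht
    have hfix : n * ii z t * n⁻¹ = ii z t := by
      calc n * ii z t * n⁻¹ = (n * t * n⁻¹) * (n * (z * t * z⁻¹) * n⁻¹)⁻¹ := by simp only [ii]; group
        _ = ii z t := by rw [hnz t htW, hno t ht]; rfl
    obtain ⟨hiV, hil, hiK⟩ := hiT t ht
    have h3 := hrest _ hiV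
    rw [hfix] at h3
    have h4 := congrFun h3 0
    rw [hil] at h4
    simp [diag, Matrix.mulVec, dotProduct, Fin.sum_univ_two] at h4
    have hx0 : φ (ii z t) 0 = 0 := by
      by_contra hx
      exact hl₀one _ hiK hx (Units.ext (by
        rw [Units.val_one]
        exact mul_right_cancel₀ hx (by rw [one_mul]; exact h4.symm)))
    have h1 := hb.eq_one_of_inverted ha hz hρz hiV (hb.ii_inverted ha hz hρz htW)
      (by rw [hil, hx0]; ext i; fin_cases i <;> rfl)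
    have hzt : z * t * z⁻¹ = t := (mul_inv_eq_one.1 h1).symm
    have hle : sSup 𝔅 ⊔ (P : Subgroup G) ≤ centralizer ({t} : Set G) :=
      sup_le (sSup_le fun E hEB a haE => mem_centralizer_singleton_iff.2 (hall t ht hzt E hEB a haE).eq)
        fun u hu => mem_centralizer_singleton_iff.2 (hTP t ht u hu).eq
    rw [hf.gen] at hle
    exact hgt (mem_centralizer_singleton_iff.1 (hle (mem_top g)))
  refine ⟨n, hnT, ⟨o, hoc, fun t ht => hfixo t (hTW ht)⟩, hmoved, ?_⟩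
  -- the commutator
  set D := closure {y | ∃ t ∈ T, y = n * t * n⁻¹ * t⁻¹} with hD
  have hnt : ∀ t ∈ T, n * t * n⁻¹ ∈ T := fun t ht => (mem_normalizer_iff.1 hnT t).1 ht
  have hDimg : ∀ y ∈ D, ∃ t ∈ T, y = n * t * n⁻¹ * t⁻¹ := by
    intro y hy
    induction hy using Subgroup.closure_induction with
    | mem y hy => exact hy
    | one => exact ⟨1, one_mem T, by simp⟩
    | mul x y _ _ hx hy =>
      obtain ⟨a, haT, rfl⟩ := hx
      obtain ⟨b, hbT, rfl⟩ := hy
      refine ⟨a * b, mul_mem haT hbT, ?_⟩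
      have hab : a⁻¹ * (n * b * n⁻¹ * b⁻¹) = (n * b * n⁻¹ * b⁻¹) * a⁻¹ :=
        ha.comm _ (inv_mem (hTW haT)) _ (mul_mem (ha.conjW (hTW hbT) n) (inv_mem (hTW hbT)))
      calc n * a * n⁻¹ * a⁻¹ * (n * b * n⁻¹ * b⁻¹) = n * a * n⁻¹ * (a⁻¹ * (n * b * n⁻¹ * b⁻¹)) := by group
        _ = n * a * n⁻¹ * ((n * b * n⁻¹ * b⁻¹) * a⁻¹) := by rw [hab]
        _ = n * (a * b) * n⁻¹ * (a * b)⁻¹ := by group
    | inv x _ hx =>
      obtain ⟨a, haT, rfl⟩ := hx
      refine ⟨a⁻¹, inv_mem haT, ?_⟩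
      calc (n * a * n⁻¹ * a⁻¹)⁻¹ = a * (n * a⁻¹ * n⁻¹) := by group
        _ = n * a⁻¹ * n⁻¹ * a := ha.comm _ (hTW haT) _ (ha.conjW (inv_mem (hTW haT)) n)
        _ = n * a⁻¹ * n⁻¹ * a⁻¹⁻¹ := by group
  have hDT : ∀ y ∈ D, y ∈ T := fun y hy => by
    obtain ⟨t, ht, rfl⟩ := hDimg y hy
    exact mul_mem (hnt t ht) (inv_mem ht)
  have hDn : ∀ y ∈ D, n * y * n⁻¹ ∈ D := fun y hy => by
    obtain ⟨t, ht, rfl⟩ := hDimg y hy
    exact subset_closure ⟨n * t * n⁻¹, hnt t ht, by group⟩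
  have hfixD : ∀ y ∈ D, n * y * n⁻¹ = y → y = 1 := by
    intro y hy hfix
    obtain ⟨t, ht, hyt⟩ := hDimg y hy
    have hk : ∀ k : ℕ, n ^ k * t * (n ^ k)⁻¹ = y ^ k * t := by
      intro k
      induction k with
      | zero => simp
      | succ k ih =>
        calc n ^ (k + 1) * t * (n ^ (k + 1))⁻¹ = n * (n ^ k * t * (n ^ k)⁻¹) * n⁻¹ := by
              rw [pow_succ']; group
          _ = (n * y * n⁻¹) ^ k * (n * t * n⁻¹) := by rw [ih, conj_pow]; group
          _ = y ^ (k + 1) * t := by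
              rw [hfix, show n * t * n⁻¹ = y * t by rw [hyt]; group, pow_succ, mul_assoc]
    have h3 : y ^ o = 1 := by
      have := hk o
      rw [hfixo t (hTW ht)] at this
      exact mul_eq_right.1 this.symm
    obtain ⟨k, hk'⟩ := ha.pgroup ⟨y, hTW (hDT y hy)⟩
    have hk'' : y ^ p ^ k = 1 := congrArg Subtype.val hk'
    exact orderOf_eq_one_iff.1 (Nat.eq_one_of_dvd_coprimes (hoc.pow_right k)
      (orderOf_dvd_of_pow_eq_one h3) (orderOf_dvd_of_pow_eq_one hk''))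
  have hDV : ∀ y ∈ D, y ∈ V := by
    intro y hy
    have hyT := hDT y hy
    refine (ha.memV y).2 ⟨hTW hyT, hfixD _ (pow_mem hy p) (hfixn _ (pow_mem (hTW hyT) p) ?_)⟩
    refine hall _ (pow_mem hyT p) ?_
    have h3 : ii z y ^ p = 1 := ((ha.memV _).1 (hiT y hyT).1).2
    have hc : Commute y (z * y * z⁻¹)⁻¹ := ha.comm _ (hTW hyT) _ (inv_mem (ha.conjW (hTW hyT) z))
    rw [ii, hc.mul_pow, inv_pow, conj_pow, mul_inv_eq_one] at h3
    exact h3.symm
  have hDφ : ∀ d ∈ D, φ d = 0 → d = 1 := by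
    intro d hd h0
    refine hfixD d hd (hfixn d (hTW (hDT d hd)) (hall d (hDT d hd) ?_))
    rw [← mem_centralizer_iff.1 ((hb.φ_ker d (hDV d hd)).1 h0) z hz |>.symm, mul_inv_cancel_right]
  have hDline : ∀ d ∈ D, φ d = ![φ d 0, 0] ∧ φ d 0 ∈ K₀ := fun d hd =>
    ⟨hline (hDV d hd) fun u hu => hTP d (hDT d hd) u hu.1, hfixK₀ (hDV d hd) (hTP d (hDT d hd))⟩
  intro a₁ ha₁ b₁ hb₁ ha₁1 hb₁1
  obtain ⟨hal, haK⟩ := hDline a₁ ha₁
  obtain ⟨hbl, hbK⟩ := hDline b₁ hb₁
  have hx : φ a₁ 0 ≠ 0 := fun h0 => ha₁1 (hDφ a₁ ha₁ (by rw [hal, h0]; ext i; fin_cases i <;> rfl))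
  have hy : φ b₁ 0 ≠ 0 := fun h0 => hb₁1 (hDφ b₁ hb₁ (by rw [hbl, h0]; ext i; fin_cases i <;> rfl))
  have hmem : Units.mk0 _ hy * (Units.mk0 _ hx)⁻¹ ∈ Γ' := hΓ _ haK _ hbK hx hy
  obtain ⟨k, hk⟩ := (isOfFinOrder_of_finite _).mem_powers_iff_mem_zpowers.2 (hgen ⟨_, hmem⟩)
  have hk' : l₀ ^ k = Units.mk0 _ hy * (Units.mk0 _ hx)⁻¹ := congrArg Subtype.val hk
  have hiter : ∀ j : ℕ, n ^ j * a₁ * (n ^ j)⁻¹ ∈ D ∧
      φ (n ^ j * a₁ * (n ^ j)⁻¹) = ![((l₀ ^ j : Fˣ) : F) * φ a₁ 0, 0] := by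
    intro j
    induction j with
    | zero => simp [ha₁, ← hal]
    | succ j ih =>
      have e : n ^ (j + 1) * a₁ * (n ^ (j + 1))⁻¹ = n * (n ^ j * a₁ * (n ^ j)⁻¹) * n⁻¹ := by
        rw [pow_succ']; group
      rw [e]
      refine ⟨hDn _ ih.1, ?_⟩
      rw [hrest _ (hDV _ ih.1), ih.2]
      ext i; fin_cases i <;> simp [diag, Matrix.mulVec, dotProduct, Fin.sum_univ_two, pow_succ']
      ring
  refine ⟨k, mul_inv_eq_one.1 (hDφ _ (mul_mem (hiter k).1 (inv_mem hb₁)) ?_)⟩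
  rw [hb.φ_mul _ (hDV _ (hiter k).1) _ (inv_mem (hDV _ hb₁)), hb.φ_inv (hDV _ hb₁), (hiter k).2, hbl, hk']
  simp [hx]

end Family

end Cfsg.Lib.Local.BlockTorus
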